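import Cfsg.Agent.Lib.SmallRee.ToriResults
import Cfsg.Agent.Lib.Characters.PermTwo
import Cfsg.Agent.Lib.Characters.Ito
import Cfsg.Agent.Lib.Characters.LinearTwist
import Cfsg.Agent.Lib.Chars17.IrrBasic

/-!
# The action on the cosets of the Borel subgroup of a small Ree group
-/

set_option autoImplicit false
set_option linter.style.haveILetI false

noncomputable section

namespace CfsgLib.ReeSq

open Cfsg CfsgLib.Characters CfsgLib.SmallRee Subgroup MulAction
open scoped ComplexConjugate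

universe u

variable {G : Type u} [Group G] [Fintype G] {q a r : ℕ} (D : ToriData G q a r)

/-- The number of fixed cosets of the normaliser of `U`. -/
def fixN (g : G) : ℕ := Nat.card (fixedBy (G ⧸ normalizer (D.U : Set G)) g)

theorem fixN_one : fixN D 1 = q ^ 3 + 1 := by
  rw [fixN, ← D.index_NU, Subgroup.index]
  exact Nat.card_congr (Equiv.subtypeUnivEquiv fun x => one_smul G x)

omit [Fintype G] in
theorem fixN_eq_zero {g : G} (h : ∀ k : G, k * g * k⁻¹ ∉ normalizer (D.U : Set G)) :
    fixN D g = 0 := by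
  rw [fixN, Nat.card_eq_zero]
  refine Or.inl ⟨fun ⟨x, hx⟩ => ?_⟩
  induction x using QuotientGroup.induction_on with
  | _ y =>
    have hx' : (QuotientGroup.mk (g * y) : G ⧸ normalizer (D.U : Set G)) = QuotientGroup.mk y := hx
    rw [eq_comm, QuotientGroup.eq, ← mul_assoc] at hx'
    exact h y⁻¹ (by rwa [inv_inv])

theorem mem_of_fixed {u : G} (hu : u ∈ D.U) (hu1 : u ≠ 1) {y : G}
    (hy : u • (QuotientGroup.mk y : G ⧸ normalizer (D.U : Set G)) = QuotientGroup.mk y) :
    y ∈ normalizer (D.U : Set G) := by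
  have hy' : (QuotientGroup.mk (u * y) : G ⧸ normalizer (D.U : Set G)) = QuotientGroup.mk y := hy
  rw [eq_comm, QuotientGroup.eq, ← mul_assoc] at hy'
  have ho : orderOf (y⁻¹ * u * y) ∣ 3 ^ 2 := by
    rw [show y⁻¹ * u * y = y⁻¹ * u * y⁻¹⁻¹ by rw [inv_inv], SmallRee.orderOf_conj]
    exact orderOf_dvd_of_pow_eq_one (D.U_pow u hu)
  obtain ⟨k, -, hk⟩ := (Nat.dvd_prime_pow Nat.prime_three).1 ho
  have := D.U_ti u hu hu1 y⁻¹ (by rw [inv_inv]; exact D.mem_U_of_mem_NU hy' hk)
  exact inv_inv y ▸ inv_mem this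

theorem fixN_U {u : G} (hu : u ∈ D.U) (hu1 : u ≠ 1) : fixN D u = 1 := by
  rw [fixN, Nat.card_eq_one_iff_unique]
  refine ⟨⟨fun ⟨x, hx⟩ ⟨x', hx'⟩ => Subtype.ext ?_⟩, ⟨⟨QuotientGroup.mk 1, ?_⟩⟩⟩
  · induction x using QuotientGroup.induction_on with
    | _ y =>
      induction x' using QuotientGroup.induction_on with
      | _ y' =>
        exact QuotientGroup.eq.2 (mul_mem (inv_mem (mem_of_fixed D hu hu1 hx))
          (mem_of_fixed D hu hu1 hx'))
  · show (QuotientGroup.mk (u * 1) : G ⧸ normalizer (D.U : Set G)) = QuotientGroup.mk 1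
    rw [QuotientGroup.eq]
    simpa using le_normalizer hu

theorem two_transitive :
    IsMultiplyPretransitive G (G ⧸ normalizer (D.U : Set G)) 2 := by
  classical
  set B := normalizer (D.U : Set G) with hB
  set o : G ⧸ B := QuotientGroup.mk 1 with ho
  -- `U` acts semiregularly, hence transitively, on the other cosets
  have key : ∀ x y : G ⧸ B, x ≠ o → y ≠ o → ∃ u ∈ D.U, u • x = y := by
    intro x y hx hy
    have hne : ∀ u ∈ D.U, u • x ≠ o := by
      intro u hu e
      refine hx ?_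
      have he : u⁻¹ • o = x := by rw [← e, inv_smul_smul]
      rw [← he]
      show (QuotientGroup.mk (u⁻¹ * 1) : G ⧸ B) = QuotientGroup.mk 1
      rw [QuotientGroup.eq]
      simpa using le_normalizer hu
    let f : D.U → {z : G ⧸ B // z ≠ o} := fun u => ⟨(u : G) • x, hne u u.2⟩
    have hf : Function.Injective f := by
      intro u v e
      have e' : (u : G) • x = (v : G) • x := congrArg Subtype.val e
      by_contra huv
      induction x using QuotientGroup.induction_on with
      | _ w =>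
        have hw := mem_of_fixed D (u := (v : G)⁻¹ * u) (mul_mem (inv_mem v.2) u.2)
          (fun h => huv (Subtype.ext (inv_mul_eq_one.1 h).symm)) (y := w)
          (by rw [mul_smul, e', inv_smul_smul])
        exact hx (QuotientGroup.eq.2 (by rw [mul_one]; exact inv_mem hw))
    have hcard : Nat.card {z : G ⧸ B // z ≠ o} = Nat.card D.U := by
      rw [D.card_U]
      have h : Nat.card (G ⧸ B) = q ^ 3 + 1 := D.index_NU
      haveI := Fintype.ofFinite (G ⧸ B)
      rw [Nat.card_eq_fintype_card] at h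
      rw [Nat.card_eq_fintype_card, Fintype.card_subtype_compl, Fintype.card_subtype_eq, h]
      omega
    obtain ⟨u, hu⟩ := ((Nat.bijective_iff_injective_and_card f).2 ⟨hf, hcard.symm⟩).2 ⟨y, hy⟩
    exact ⟨u, u.2, congrArg Subtype.val hu⟩
  rw [is_two_pretransitive_iff]
  intro x y x' y' hxy hxy'
  obtain ⟨g₁, hg₁⟩ := exists_smul_eq G x o
  obtain ⟨g₂, hg₂⟩ := exists_smul_eq G x' o
  obtain ⟨u, hu, he⟩ := key (g₁ • y) (g₂ • y')
    (fun e => hxy (MulAction.injective g₁ (hg₁.trans e.symm)))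
    (fun e => hxy' (MulAction.injective g₂ (hg₂.trans e.symm)))
  have huo : u • o = o := by
    show (QuotientGroup.mk (u * 1) : G ⧸ B) = QuotientGroup.mk 1
    rw [QuotientGroup.eq]
    simpa using le_normalizer hu
  refine ⟨g₂⁻¹ * (u * g₁), ?_, ?_⟩
  · rw [mul_smul, mul_smul, hg₁, huo, inv_smul_eq_iff, hg₂]
  · rw [mul_smul, mul_smul, he, inv_smul_smul]

/-- The Steinberg character. -/
def St : IrrCharacter G :=
  ⟨fun g => (fixN D g : ℂ) - 1, (CfsgLib.PermTwo.isIrrCharacter_fix_sub_one_iff (by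
    have h : Nat.card (G ⧸ normalizer (D.U : Set G)) = q ^ 3 + 1 := D.index_NU
    rw [h]
    have := Nat.one_le_pow 3 q (by have := D.hq; omega)
    omega)).2 (two_transitive D)⟩

theorem St_apply (g : G) : (St D : G → ℂ) g = (fixN D g : ℂ) - 1 := rfl

theorem St_one : (St D : G → ℂ) 1 = (q : ℂ) ^ 3 := by
  rw [St_apply, fixN_one]; push_cast; ring

theorem St_degree : charDegree (St D : G → ℂ) = q ^ 3 := by
  have h := CfsgLib.Chars17.cast_irrDegree (St D)
  rw [St_one] at h
  exact_mod_cast h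

theorem St_ne : St D ≠ principalIrr G := by
  intro e
  have h := St_one D
  rw [e, principalIrr_apply] at h
  have h' : (1 : ℕ) = q ^ 3 := by exact_mod_cast h
  have := Nat.le_self_pow (show 3 ≠ 0 by norm_num) q
  have := D.hq
  omega

theorem St_U {u : G} (hu : u ∈ D.U) (hu1 : u ≠ 1) : (St D : G → ℂ) u = 0 := by
  rw [St_apply, fixN_U D hu hu1]; simp

theorem St_off {g : G} (h : ∀ k : G, k * g * k⁻¹ ∉ normalizer (D.U : Set G)) :
    (St D : G → ℂ) g = -1 := by
  rw [St_apply, fixN_eq_zero D h]; simp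

variable [Fintype (normalizer (D.U : Set G))]

omit [Fintype (normalizer (D.U : Set G))] in
/-- A function of absolute value one induced from the Borel subgroup has norm at most two. -/
theorem norm_indFun_le {θ : normalizer (D.U : Set G) → ℂ} (hθ : ∀ b, ‖θ b‖ = 1) :
    (classInner (indFun (normalizer (D.U : Set G)) θ) (indFun (normalizer (D.U : Set G)) θ)).re ≤ 2 := by
  classical
  let B := normalizer (D.U : Set G)
  have hle : ∀ g, ‖indFun B θ g‖ ≤ (fixN D g : ℝ) := by
    intro g
    have hπ : indFun B (fun _ => (1 : ℂ)) g = (fixN D g : ℂ) := by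
      rw [CfsgLib.PermChar.indFun_one_eq_fixCount]; rfl
    have h1 : (fixN D g : ℝ) = (Nat.card B : ℝ)⁻¹ * ∑ x : G, (if x⁻¹ * g * x ∈ B then (1 : ℝ) else 0) := by
      have h : ((fixN D g : ℝ) : ℂ) =
          (((Nat.card B : ℝ)⁻¹ * ∑ x : G, (if x⁻¹ * g * x ∈ B then (1 : ℝ) else 0) : ℝ) : ℂ) := by
        rw [Complex.ofReal_natCast, ← hπ, CfsgLib.Induction.indFun_apply]
        push_cast
        congr 1
        refine Finset.sum_congr rfl fun x _ => ?_
        split_ifs with hx
        · rw [CfsgLib.Induction.extendByZero_mem B _ hx, Complex.ofReal_one]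
        · rw [CfsgLib.Induction.extendByZero_notMem B _ hx, Complex.ofReal_zero]
      exact_mod_cast h
    rw [CfsgLib.Induction.indFun_apply, h1, norm_mul, norm_inv, Complex.norm_natCast]
    refine mul_le_mul_of_nonneg_left ((norm_sum_le _ _).trans (Finset.sum_le_sum fun x _ => ?_)) (by positivity)
    split_ifs with hx
    · rw [CfsgLib.Induction.extendByZero_mem B _ hx, hθ]
    · rw [CfsgLib.Induction.extendByZero_notMem B _ hx, norm_zero]
  have hsum : ∑ g : G, ((fixN D g : ℝ)) ^ 2 = 2 * (Nat.card G : ℝ) := by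
    have hX : 2 ≤ Nat.card (G ⧸ B) := by
      have h : Nat.card (G ⧸ B) = q ^ 3 + 1 := D.index_NU
      rw [h]
      have := Nat.one_le_pow 3 q (by have := D.hq; omega)
      omega
    have h := CfsgLib.PermTwo.sum_fixedBy (G := G) ((G ⧸ B) × (G ⧸ B))
    rw [(CfsgLib.PermTwo.card_orbits_pair_eq_two_iff hX).2 (two_transitive D)] at h
    simp only [CfsgLib.PermTwo.card_fixedBy_prod] at h
    have h' : ((∑ g : G, ((fixN D g : ℝ)) ^ 2 : ℝ) : ℂ) = ((2 * (Nat.card G : ℝ) : ℝ) : ℂ) := by
      push_cast at h ⊢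
      rw [← h]
      exact Finset.sum_congr rfl fun g _ => pow_two _
    exact_mod_cast h'
  have hG : (0 : ℝ) < Nat.card G := Nat.cast_pos.2 Nat.card_pos
  have hre : (classInner (indFun B θ) (indFun B θ)).re =
      (Nat.card G : ℝ)⁻¹ * ∑ g : G, ‖indFun B θ g‖ ^ 2 := by
    have h : classInner (indFun B θ) (indFun B θ) =
        (((Nat.card G : ℝ)⁻¹ * ∑ g : G, ‖indFun B θ g‖ ^ 2 : ℝ) : ℂ) := by
      simp only [classInner, Complex.mul_conj']
      push_cast
      rfl
    rw [h, Complex.ofReal_re]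
  rw [hre, inv_mul_le_iff₀ hG, mul_comm _ (2 : ℝ), ← hsum]
  exact Finset.sum_le_sum fun g _ => pow_le_pow_left₀ (norm_nonneg _) (hle g) 2

/-- Three or more irreducible characters agreeing on the Borel subgroup vanish on the elements of
`H` other than `1` and `t`. -/
theorem vanish_on_H {A : Finset (IrrCharacter G)} (hA : 3 ≤ A.card)
    (hagree : ∀ χ ∈ A, ∀ ξ ∈ A, ∀ b ∈ normalizer (D.U : Set G), (χ : G → ℂ) b = (ξ : G → ℂ) b)
    {χ : IrrCharacter G} (hχ : χ ∈ A) {h : G} (hh : h ∈ D.H) (h2 : h * h ≠ 1) :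
    (χ : G → ℂ) h = 0 := by
  classical
  let B := normalizer (D.U : Set G)
  set N := D.U.subgroupOf B with hN
  haveI hNn : N.Normal := Subgroup.normal_in_normalizer
  haveI : Fintype (B ⧸ N) := Fintype.ofFinite _
  -- the quotient is abelian
  have hrep : ∀ c : B ⧸ N, ∃ k : B, (k : G) ∈ D.H ∧ QuotientGroup.mk k = c := by
    intro c
    induction c using QuotientGroup.induction_on with
    | _ b =>
      obtain ⟨u, hu, k, hk, e⟩ := D.NU_dec b b.2
      refine ⟨⟨k, D.H_le_NU hk⟩, hk, QuotientGroup.eq.2 ?_⟩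
      show k⁻¹ * (b : G) ∈ D.U
      rw [← e, ← mul_assoc]
      have := (mem_normalizer_iff.1 (inv_mem (D.H_le_NU hk)) u).1 hu
      rwa [inv_inv] at this
  haveI : IsMulCommutative (B ⧸ N) := ⟨⟨fun c d => by
    obtain ⟨k, hk, rfl⟩ := hrep c
    obtain ⟨l, hl, rfl⟩ := hrep d
    rw [← QuotientGroup.mk_mul, ← QuotientGroup.mk_mul]
    exact congrArg _ (Subtype.ext (D.H_comm hk hl).eq)⟩⟩
  let F : B ⧸ N → ℂ := fun c =>
    ∑ b ∈ Finset.univ.filter (fun b : B => (QuotientGroup.mk b : B ⧸ N) = c), (χ : G → ℂ) (b : G)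
  have hFcl : IsClassFunction (B ⧸ N) F := fun c d => by
    rw [mul_comm' d c, mul_inv_cancel_right]
  have hF : F = 0 := by
    refine eq_zero_of_forall_classInner_eq_zero hFcl fun η => ?_
    obtain ⟨f, hf⟩ := CfsgLib.LinearTwist.exists_hom_of_charDegree_one (irr_isCharacter η) (by
      have h1 := CfsgLib.Chars17.cast_irrDegree η
      rw [CfsgLib.CharIto.degree_one_of_comm η.2] at h1
      exact_mod_cast h1)
    let θ : B → ℂ := fun b => (η : B ⧸ N → ℂ) (QuotientGroup.mk b)
    have hθchar : IsCharacter B θ := by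
      have := CfsgLib.Induction.isCharacter_monoidHom ((Units.coeHom ℂ).comp (f.comp (QuotientGroup.mk' N)))
      convert this using 1
      funext b
      simp [θ, hf]
    have hθ1 : ∀ b, ‖θ b‖ = 1 := fun b => by
      simp only [θ, hf]
      refine Complex.norm_eq_one_of_pow_eq_one (n := Nat.card (B ⧸ N)) ?_ Nat.card_pos.ne'
      rw [← Units.val_pow_eq_pow_val, ← map_pow, pow_card_eq_one', map_one, Units.val_one]
    set ψ := indFun B θ
    have hψ : IsClassFunction G ψ := CfsgLib.Induction.isClassFunction_indFun B θ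
    have hres : ∀ ξ : IrrCharacter G, classInner (ξ : G → ℂ) ψ = classInner (fun b : B => (ξ : G → ℂ) b) θ :=
      fun ξ => CfsgLib.Induction.classInner_indFun_right B θ (irr_isClassFunction ξ)
    have hnat : ∀ ξ : IrrCharacter G, ∃ n : ℕ, classInner ψ (ξ : G → ℂ) = n := fun ξ =>
      classInner_char_nat (CfsgLib.Induction.isCharacter_indFun B hθchar) (irr_isCharacter ξ)
    choose n hn using hnat
    have hnorm : (∑ ξ : IrrCharacter G, (n ξ : ℝ) ^ 2) ≤ 2 := by
      have h := norm_indFun_le D hθ1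
      have he : classInner ψ ψ = ((∑ ξ : IrrCharacter G, (n ξ : ℝ) ^ 2 : ℝ) : ℂ) := by
        rw [classInner_eq_sum_mul hψ, Complex.ofReal_sum]
        refine Finset.sum_congr rfl fun ξ _ => ?_
        rw [hn, map_natCast, Complex.ofReal_pow, Complex.ofReal_natCast, pow_two]
      change (classInner ψ ψ).re ≤ 2 at h
      rwa [he, Complex.ofReal_re] at h
    have heq : ∀ ξ ∈ A, n ξ = n χ := fun ξ hξ => by
      have h1 : classInner ψ (ξ : G → ℂ) = classInner ψ (χ : G → ℂ) := by
        rw [CfsgLib.Induction.classInner_swap ψ (ξ : G → ℂ), CfsgLib.Induction.classInner_swap ψ (χ : G → ℂ),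
          hres, hres]
        congr 2
        funext b
        exact hagree ξ hξ χ hχ b b.2
      rw [hn, hn] at h1
      exact_mod_cast h1
    have hn0 : n χ = 0 := by
      by_contra hne
      have h1 : (1 : ℝ) ≤ n χ := Nat.one_le_cast.2 (Nat.one_le_iff_ne_zero.2 hne)
      have h3 : (A.card : ℝ) * 1 ≤ ∑ ξ : IrrCharacter G, (n ξ : ℝ) ^ 2 := by
        refine le_trans ?_ (Finset.sum_le_sum_of_subset_of_nonneg (Finset.subset_univ A) fun _ _ _ => sq_nonneg _)
        rw [← nsmul_eq_mul, ← Finset.sum_const]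
        refine Finset.sum_le_sum fun ξ hξ => ?_
        rw [heq ξ hξ]
        nlinarith
      have : (3 : ℝ) ≤ A.card := by exact_mod_cast hA
      linarith
    have h0 : classInner (fun b : B => (χ : G → ℂ) b) θ = 0 := by
      rw [← hres, CfsgLib.Induction.classInner_swap, hn, hn0, Nat.cast_zero, map_zero]
    rw [classInner, mul_eq_zero, inv_eq_zero, Nat.cast_eq_zero] at h0
    have h0' := h0.resolve_left Nat.card_pos.ne'
    rw [classInner, ← Finset.sum_fiberwise (s := Finset.univ) (g := fun b : B => (QuotientGroup.mk b : B ⧸ N))] at *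
    refine mul_eq_zero_of_right _ ?_
    rw [← h0']
    refine Finset.sum_congr rfl fun c _ => ?_
    simp only [F, Finset.sum_mul]
    refine Finset.sum_congr rfl fun b hb => ?_
    simp only [θ]
    rw [(Finset.mem_filter.1 hb).2]
  -- all elements of the coset of `h` are conjugate to `h`
  have hFh := congrFun hF (QuotientGroup.mk (⟨h, D.H_le_NU hh⟩ : B))
  simp only [F, Pi.zero_apply] at hFh
  rw [Finset.sum_congr rfl (g := fun _ => (χ : G → ℂ) h) fun b hb => ?_, Finset.sum_const,
    nsmul_eq_mul, mul_eq_zero, Nat.cast_eq_zero, Finset.card_eq_zero] at hFh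
  · refine hFh.resolve_left fun he => ?_
    exact Finset.eq_empty_iff_forall_notMem.1 he (⟨h, D.H_le_NU hh⟩ : B)
      (Finset.mem_filter.2 ⟨Finset.mem_univ _, rfl⟩)
  · have he : (QuotientGroup.mk b : B ⧸ N) = QuotientGroup.mk (⟨h, D.H_le_NU hh⟩ : B) :=
      (Finset.mem_filter.1 hb).2
    have hb'' := QuotientGroup.eq.1 he
    have hb' : (b : G)⁻¹ * h ∈ D.U := hb''
    obtain ⟨k, hk⟩ := D.conj_to_H (u := (b : G) * h⁻¹) (by
      have := (mem_normalizer_iff.1 (D.H_le_NU hh) ((b : G)⁻¹ * h)⁻¹).1 (inv_mem hb')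
      convert this using 1
      group) hh h2
    rw [show (b : G) * h⁻¹ * h = b by group] at hk
    exact classFunction_eq_of_isConj (irr_isClassFunction χ) (isConj_iff.2 ⟨k, hk⟩)

end CfsgLib.ReeSq
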