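import Cfsg.Agent.Lib.ReeSquare.Unip

/-!
# The conjugacy classes of a small Ree group, coarsely
-/

set_option autoImplicit false
set_option linter.style.haveILetI false

namespace CfsgLib.ReeSq

open CfsgLib.SmallRee Subgroup

universe u

variable {G : Type u} [Group G] [Finite G] {q a r : ℕ} (D : ToriData G q a r)

omit [Finite G] in
theorem card_cent_conj (k g : G) :
    Nat.card (centralizer ({k * g * k⁻¹} : Set G)) = Nat.card (centralizer ({g} : Set G)) := by
  rw [← centralizer_conj_map, card_map_conj]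

omit [Finite G] in
theorem exists_of_isConj {g p : G} (h : IsConj g p) : ∃ k : G, k * g * k⁻¹ = p := isConj_iff.1 h

include D

omit [Finite G] in
theorem r_bounds : 3 * r ≤ q ∧ 9 ≤ r := by
  have h := D.hq; have h' := D.hr
  constructor
  · nlinarith
  · nlinarith

/-- Centralisers of elements of order prime to three and greater than two. -/
theorem cent_semisimple {g : G} (h2 : 2 < orderOf g) (h3 : ¬ 3 ∣ orderOf g) :
    (∃ k : G, k * g * k⁻¹ ∈ D.H ∧ Nat.card (centralizer ({g} : Set G)) = q - 1) ∨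
    (∃ k : G, (Commute D.t (k * g * k⁻¹) ∧ ¬ orderOf g ∣ q - 1) ∧
      Nat.card (centralizer ({g} : Set G)) = q + 1) ∨
    (∀ p : ℕ, p.Prime → p ∣ orderOf g → p ∣ q ^ 2 - q + 1) := by
  obtain ⟨v, O, Q⟩ := D.exists_quad₀
  have hg : g ≠ 1 := fun e => by rw [e, orderOf_one] at h2; omega
  rcases D.order_cases Q hg with e | e | ⟨-, -, k, hk⟩ | ⟨-, hd, k, hk⟩ | e
  · omega
  · exact absurd e h3
  · refine Or.inl ⟨k, hk, ?_⟩
    rw [← card_cent_conj k g, D.centralizer_torus hk, D.card_H]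
    intro e
    have := Nat.le_of_dvd Nat.two_pos (orderOf_dvd_of_pow_eq_one ((pow_two _).trans e))
    rw [SmallRee.orderOf_conj] at this
    omega
  · have hnd : ¬ orderOf g ∣ q - 1 := fun h => D.two_part_exclusive h2 h hd
    refine Or.inr (Or.inl ⟨k, ⟨?_, hnd⟩, ?_⟩)
    · exact mem_centralizer_iff.1 (mem_inf.1 hk).1 D.t (Or.inl rfl)
    obtain ⟨y, hy, z, hz, ez⟩ := (Q.W_structure D).2 _ hk
    have hy2 : y * y = 1 := (Q.four_mem hy).2
    have hyz : Commute y z :=
      (mem_centralizer_iff.1 (mem_inf.1 (Q.four_mem hy).1).2 z hz).symm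
    have hz1 : z ≠ 1 := by
      intro e
      rw [e, mul_one] at ez
      have := Nat.le_of_dvd Nat.two_pos (orderOf_dvd_of_pow_eq_one ((pow_two (k * g * k⁻¹)).trans (ez ▸ hy2)))
      rw [SmallRee.orderOf_conj] at this
      omega
    have hWx : centralizer ({k * g * k⁻¹} : Set G) = Wgrp D.t v O := by
      refine le_antisymm (fun w hw => ?_) fun w hw =>
        mem_centralizer_singleton_iff.2 (Q.W_comm D w hw _ hk).eq
      rw [← Q.centralizer_eq D hz hz1, mem_centralizer_singleton_iff]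
      have hc : Commute w (k * g * k⁻¹) := mem_centralizer_singleton_iff.1 hw
      obtain ⟨j, hj⟩ := D.ha
      have hp : z = ((k * g * k⁻¹) ^ 2) ^ (j + 1) := by
        rw [ez, hyz.mul_pow, pow_two y, hy2, one_mul, ← pow_mul, show 2 * (j + 1) = a + 1 by omega, pow_succ,
          Q.pow_a hz, one_mul]
      rw [hp]
      exact ((hc.pow_right 2).pow_right (j + 1)).eq
    rw [← card_cent_conj k g, hWx, (Q.W_structure D).1, D.h4a]
  · exact Or.inr (Or.inr e)

/-- Big torus elements. -/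
theorem cent_big {g : G} (hg : g ≠ 1) (h : ∀ p : ℕ, p.Prime → p ∣ orderOf g → p ∣ q ^ 2 - q + 1) :
    ∃ (T T' : Subgroup G) (δ : ℤ) (c c' : ℕ), (δ = 1 ∨ δ = -1) ∧ BigTorus T c ∧ BigTorus T' c' ∧
      c * c' = q ^ 2 - q + 1 ∧ (c : ℤ) = q + 1 + δ * r ∧ (c' : ℤ) = q + 1 - δ * r ∧
      (∃ k : G, k * g * k⁻¹ ∈ T) ∧ Nat.card (centralizer ({g} : Set G)) = c := by
  obtain ⟨v, O, Q⟩ := D.exists_quad₀
  obtain ⟨T₁, T₂, h₁, h₂, hrq, hprod, hcov⟩ := D.exists_bigTori Q
  rcases hcov g hg h with ⟨k, hk⟩ | ⟨k, hk⟩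
  · refine ⟨T₁, T₂, -1, _, _, Or.inr rfl, h₁, h₂, hprod, by push_cast [Nat.cast_sub hrq.le]; ring,
      by push_cast; ring, ⟨k, hk⟩, ?_⟩
    rw [← card_cent_conj k g, h₁.cent _ hk (SmallRee.conj_ne_one k hg), h₁.card_T]
  · refine ⟨T₂, T₁, 1, _, _, Or.inl rfl, h₂, h₁, (mul_comm _ _).trans hprod, by push_cast; ring,
      by push_cast [Nat.cast_sub hrq.le]; ring, ⟨k, hk⟩, ?_⟩
    rw [← card_cent_conj k g, h₂.cent _ hk (SmallRee.conj_ne_one k hg), h₂.card_T]

theorem semisimple_small {g : G} (h2 : 2 < orderOf g) (h3 : ¬ 3 ∣ orderOf g) :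
    Nat.card (centralizer ({g} : Set G)) ≤ 3 * q := by
  have hq := D.hq
  obtain ⟨hr3, -⟩ := r_bounds D
  rcases cent_semisimple D h2 h3 with ⟨k, -, e⟩ | ⟨k, -, e⟩ | e
  · omega
  · omega
  · have hg : g ≠ 1 := fun e => by rw [e, orderOf_one] at h2; omega
    obtain ⟨T, T', δ, c, c', hδ, -, -, -, hc, -, -, e'⟩ := cent_big D hg e
    rw [e']
    have hrq : r ≤ q := D.r_lt.le
    rcases hδ with rfl | rfl <;> omega

/-- The three kinds of non-trivial elements used for the class squares. -/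
theorem g_cases (X : UnipData D.U q) {g : G} (hg : g ≠ 1) :
    Nat.card (centralizer ({g} : Set G)) ≤ q ^ 3 ∧
    ((∃ k : G, k * g * k⁻¹ = D.t ∨ (Commute D.t (k * g * k⁻¹) ∧ (k * g * k⁻¹) ^ 3 = 1)) ∨
      (∃ k : G, k * g * k⁻¹ ∈ X.Z) ∨ Nat.card (centralizer ({g} : Set G)) ≤ q ^ 2) := by
  have hq := D.hq
  have hq23 : q ^ 2 ≤ q ^ 3 := Nat.pow_le_pow_right (by omega) (by norm_num)
  have hsmall : Nat.card (centralizer ({g} : Set G)) ≤ q ^ 2 →
      Nat.card (centralizer ({g} : Set G)) ≤ q ^ 3 ∧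
      ((∃ k : G, k * g * k⁻¹ = D.t ∨ (Commute D.t (k * g * k⁻¹) ∧ (k * g * k⁻¹) ^ 3 = 1)) ∨
        (∃ k : G, k * g * k⁻¹ ∈ X.Z) ∨ Nat.card (centralizer ({g} : Set G)) ≤ q ^ 2) :=
    fun h => ⟨h.trans hq23, Or.inr (Or.inr h)⟩
  by_cases h3 : 3 ∣ orderOf g
  · rcases D.orderOf_eq_three_div h3 with o | o | o
    · -- order three
      obtain ⟨k, hk⟩ := D.conj_into_U (y := g) (k := 1) (by rw [o]; rfl)
      have hp1 : k * g * k⁻¹ ≠ 1 := SmallRee.conj_ne_one k hg
      have hp3 : (k * g * k⁻¹) ^ 3 = 1 := by rw [← o, ← SmallRee.orderOf_conj k g]; exact pow_orderOf_eq_one _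
      refine ⟨by rw [← card_cent_conj k g]; exact card_cent_le D X hk hp1, ?_⟩
      have hQ := X.Q_mem _ hk hp3
      by_cases hZ : k * g * k⁻¹ ∈ X.Z
      · exact Or.inr (Or.inl ⟨k, hZ⟩)
      obtain ⟨i, hi, hi1, hc⟩ := X.Q_invol _ hQ hZ
      obtain ⟨l, hl⟩ := D.isConj_invol hi hi1
      refine Or.inl ⟨l⁻¹ * k, Or.inr ?_⟩
      have e : l⁻¹ * k * g * (l⁻¹ * k)⁻¹ = l⁻¹ * (k * g * k⁻¹) * l⁻¹⁻¹ := by group
      rw [e]
      refine ⟨?_, by rw [conj_pow, hp3]; group⟩
      have := SmallRee.commute_conj l⁻¹ hc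
      rwa [← hl, show l⁻¹ * (l * D.t * l⁻¹) * l⁻¹⁻¹ = D.t by group] at this
    · -- order six
      apply hsmall
      have hu : orderOf (g ^ 2) = 3 := by rw [orderOf_pow, o]; rfl
      have hi : orderOf (g ^ 3) = 2 := by rw [orderOf_pow, o]; rfl
      obtain ⟨k, hk⟩ := D.conj_into_U (y := g ^ 2) (k := 1) (by rw [hu]; rfl)
      have hu1 : k * g ^ 2 * k⁻¹ ≠ 1 := SmallRee.conj_ne_one k (fun e => by rw [e, orderOf_one] at hu; omega)
      have hle : ∀ j : ℕ, centralizer ({g} : Set G) ≤ centralizer ({g ^ j} : Set G) := fun j y hy =>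
        mem_centralizer_singleton_iff.2
          ((show Commute y g from mem_centralizer_singleton_iff.1 hy).pow_right j).eq
      have d1 : Nat.card (centralizer ({g} : Set G)) ∣ 2 * q ^ 3 :=
        (Subgroup.card_dvd_of_le (hle 2)).trans (by rw [← card_cent_conj k]; exact card_cent_dvd D hk hu1)
      have d2 : Nat.card (centralizer ({g} : Set G)) ∣ q * (q ^ 2 - 1) := by
        refine (Subgroup.card_dvd_of_le (hle 3)).trans ?_
        rw [D.card_centralizer_invol (by rw [← pow_two, ← hi]; exact pow_orderOf_eq_one _)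
          (fun e => by rw [e, orderOf_one] at hi; omega)]
      have hcop : Nat.Coprime (q ^ 2) (q ^ 2 - 1) := by
        refine Nat.coprime_of_dvd fun p hp h1 h2 => ?_
        have := Nat.dvd_sub h1 h2
        rw [show q ^ 2 - (q ^ 2 - 1) = 1 by have := Nat.one_le_pow 2 q (by omega); omega] at this
        exact hp.one_lt.ne' (Nat.dvd_one.1 this)
      have hd := Nat.dvd_gcd (show _ ∣ q * (2 * q ^ 2) by rw [show q * (2 * q ^ 2) = 2 * q ^ 3 by ring]; exact d1) d2
      rw [Nat.gcd_mul_left, hcop.gcd_mul_right_cancel] at hd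
      have h4 : Nat.card (centralizer ({g} : Set G)) ≤ q * 2 :=
        Nat.le_of_dvd (by omega) (hd.trans (Nat.mul_dvd_mul_left q (Nat.gcd_dvd_left 2 _)))
      nlinarith
    · -- order nine
      apply hsmall
      obtain ⟨k, hk⟩ := D.conj_into_U (y := g) (k := 2) (by rw [o]; rfl)
      rw [← card_cent_conj k g]
      exact card_cent_nine D X hk (by rw [SmallRee.orderOf_conj]; exact o)
  by_cases h2 : 2 < orderOf g
  · apply hsmall
    have := semisimple_small D h2 h3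
    nlinarith
  -- involutions
  have o : orderOf g = 2 := by
    have := orderOf_pos g
    have : orderOf g ≠ 1 := fun e => hg (orderOf_eq_one_iff.1 e)
    omega
  have hgg : g * g = 1 := by rw [← pow_two, ← o]; exact pow_orderOf_eq_one g
  obtain ⟨l, hl⟩ := D.isConj_invol hgg hg
  refine ⟨?_, Or.inl ⟨l⁻¹, Or.inl (by rw [← hl]; group)⟩⟩
  rw [D.card_centralizer_invol hgg hg, pow_succ' q 2]
  exact Nat.mul_le_mul_left q (Nat.sub_le _ _)

end CfsgLib.ReeSq
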