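import Cfsg.Agent.Lib.Blocks.ClassCount
import Cfsg.Agent.Lib.Chars17.IrrBasic

/-!
# Products of two conjugates through character sums
-/

set_option autoImplicit false

noncomputable section

namespace CfsgLib.ReeSq

open Cfsg CfsgLib.Characters
open scoped ComplexConjugate

universe u

variable {G : Type u} [Group G] [Fintype G]

/-- The summand of the class algebra constant of `x`, `x`, `g`. -/
def sqTerm (x g : G) (χ : IrrCharacter G) : ℂ :=
  (χ : G → ℂ) x * (χ : G → ℂ) x * conj ((χ : G → ℂ) g) / (χ : G → ℂ) 1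

theorem exists_prod_conj {x g : G} (h : ∑ χ : IrrCharacter G, sqTerm x g χ ≠ 0) :
    ∃ u v : G, g = (u * x * u⁻¹) * (v * x * v⁻¹) := by
  classical
  by_contra hno
  push Not at hno
  have hp : CfsgLib.ClassCount.pairs x x {g} = ∅ := by
    refine Finset.eq_empty_of_forall_notMem fun z hz => ?_
    simp only [CfsgLib.ClassCount.pairs, Finset.mem_filter, Finset.mem_product,
      CfsgLib.ClassCount.mem_cls, Finset.mem_singleton] at hz
    obtain ⟨⟨h1, h2⟩, h3⟩ := hz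
    obtain ⟨u, hu⟩ := isConj_iff.1 h1
    obtain ⟨v, hv⟩ := isConj_iff.1 h2
    exact hno u v (by rw [hu, hv, h3])
  have hc := CfsgLib.ClassCount.card_pairs_mul x x {g}
  rw [hp, Finset.card_empty, Nat.cast_zero, zero_mul] at hc
  have hi : ((Subgroup.centralizer ({x} : Set G)).index : ℂ) ≠ 0 :=
    Nat.cast_ne_zero.2 Subgroup.index_ne_zero_of_finite
  refine h (mul_left_cancel₀ (mul_ne_zero hi hi) ?_)
  rw [mul_zero, hc, Finset.mul_sum]
  refine Finset.sum_congr rfl fun χ _ => ?_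
  rw [Finset.sum_singleton, irr_apply_inv]
  simp only [sqTerm, centralChar]
  have h1 := irr_one_ne_zero χ
  field_simp

theorem column_norm_sq (g : G) :
    ∑ χ : IrrCharacter G, ‖(χ : G → ℂ) g‖ ^ 2 =
      (Nat.card (Subgroup.centralizer ({g} : Set G)) : ℝ) := by
  classical
  have h := column_orth (G := G) g g
  rw [if_pos (IsConj.refl g)] at h
  simp only [Complex.mul_conj'] at h
  exact_mod_cast h

omit [Fintype G] in
theorem norm_one_eq (χ : IrrCharacter G) :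
    ‖(χ : G → ℂ) 1‖ = (charDegree (χ : G → ℂ) : ℝ) := by
  rw [← CfsgLib.Chars17.cast_irrDegree, Complex.norm_natCast]

omit [Fintype G] in
theorem norm_sqTerm (x g : G) (χ : IrrCharacter G) :
    ‖sqTerm x g χ‖ =
      ‖(χ : G → ℂ) x‖ ^ 2 * ‖(χ : G → ℂ) g‖ / (charDegree (χ : G → ℂ) : ℝ) := by
  rw [sqTerm, norm_div, norm_mul, norm_mul, Complex.norm_conj, norm_one_eq, ← pow_two]

theorem norm_le_of_sq {g : G} {γ : ℝ} (hγ : 0 ≤ γ)
    (hg : (Nat.card (Subgroup.centralizer ({g} : Set G)) : ℝ) ≤ γ ^ 2) (χ : IrrCharacter G) :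
    ‖(χ : G → ℂ) g‖ ≤ γ := by
  refine (sq_le_sq₀ (norm_nonneg _) hγ).1 (le_trans ?_ hg)
  rw [← column_norm_sq g]
  exact Finset.single_le_sum (fun ξ _ => sq_nonneg ‖((ξ : IrrCharacter G) : G → ℂ) g‖) (Finset.mem_univ χ)

open scoped Classical in
/-- If the non-trivial summands are small then `g` is a product of two conjugates of `x`. -/
theorem exists_of_rest_lt {x g : G}
    (h : ∑ χ ∈ Finset.univ.erase (principalIrr G),
      ‖(χ : G → ℂ) x‖ ^ 2 * ‖(χ : G → ℂ) g‖ / (charDegree (χ : G → ℂ) : ℝ) < 1) :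
    ∃ u v : G, g = (u * x * u⁻¹) * (v * x * v⁻¹) := by
  refine exists_prod_conj fun h0 => ?_
  rw [← Finset.add_sum_erase _ _ (Finset.mem_univ (principalIrr G))] at h0
  have h1 : sqTerm x g (principalIrr G) = 1 := by simp [sqTerm]
  rw [h1, add_eq_zero_iff_eq_neg'] at h0
  have h2 := norm_sum_le (Finset.univ.erase (principalIrr G)) (sqTerm x g)
  rw [h0, norm_neg, norm_one] at h2
  simp only [norm_sqTerm] at h2
  linarith

theorem sum_div_le (A : Finset (IrrCharacter G)) {x g : G} {γ Δ N : ℝ} (hγ : 0 ≤ γ) (hΔ : 0 < Δ)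
    (hdeg : ∀ χ ∈ A, Δ ≤ (charDegree (χ : G → ℂ) : ℝ))
    (hg : (Nat.card (Subgroup.centralizer ({g} : Set G)) : ℝ) ≤ γ ^ 2)
    (hx : ∑ χ ∈ A, ‖(χ : G → ℂ) x‖ ^ 2 ≤ N) :
    ∑ χ ∈ A, ‖(χ : G → ℂ) x‖ ^ 2 * ‖(χ : G → ℂ) g‖ / (charDegree (χ : G → ℂ) : ℝ) ≤ N * γ / Δ := by
  refine le_trans (Finset.sum_le_sum (g := fun χ : IrrCharacter G => ‖(χ : G → ℂ) x‖ ^ 2 * (γ / Δ)) fun χ hχ => ?_)
    (le_trans (Finset.sum_mul _ _ (γ / Δ)).ge ?_)
  · rw [← mul_div_assoc]
    refine div_le_div₀ (by positivity) ?_ hΔ (hdeg χ hχ)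
    exact mul_le_mul_of_nonneg_left (norm_le_of_sq hγ hg χ) (sq_nonneg _)
  · rw [← mul_div_assoc]
    exact div_le_div_of_nonneg_right (mul_le_mul_of_nonneg_right hx hγ) hΔ.le

theorem two_mul_le_weighted {L w n : ℝ} (hL : 0 < L) : 2 * (w * n) ≤ L * w ^ 2 + n ^ 2 / L := by
  rw [← sub_nonneg]
  have : L * w ^ 2 + n ^ 2 / L - 2 * (w * n) = (L * w - n) ^ 2 / L := by field_simp; ring
  rw [this]
  positivity

theorem weighted_sum_le (A : Finset (IrrCharacter G)) (w : IrrCharacter G → ℝ) (g : G) :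
    2 * ∑ χ ∈ A, w χ * ‖(χ : G → ℂ) g‖ ≤
      (Nat.card (Subgroup.centralizer ({g} : Set G)) : ℝ) * ∑ χ ∈ A, w χ ^ 2 + 1 := by
  have hC : (0 : ℝ) < (Nat.card (Subgroup.centralizer ({g} : Set G)) : ℝ) := Nat.cast_pos.2 Nat.card_pos
  set C := (Nat.card (Subgroup.centralizer ({g} : Set G)) : ℝ) with hCd
  rw [Finset.mul_sum]
  refine (Finset.sum_le_sum fun χ _ => two_mul_le_weighted hC).trans ?_
  rw [Finset.sum_add_distrib, ← Finset.mul_sum, ← Finset.sum_div]
  refine add_le_add_right ?_ _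
  rw [div_le_one hC, hCd, ← column_norm_sq g]
  exact Finset.sum_le_sum_of_subset_of_nonneg (Finset.subset_univ _) fun _ _ _ => sq_nonneg _

end CfsgLib.ReeSq
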