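import Cfsg.Agent.Lib.Characters.TIFNChar
import Cfsg.Agent.Lib.Chars17.IrrBasic

/-!
# The exceptional family of an abelian T.I. subgroup of index `n` in its normalizer
-/

set_option autoImplicit false

noncomputable section

namespace CfsgLib.ReeSq

open Cfsg CfsgLib.Characters CfsgLib.FrobKernelChar
open scoped ComplexConjugate

universe u

variable {G : Type u} [Group G] [Fintype G]

/-- The data of the exceptional family of a T.I. subgroup `K` of order `n k + 1`. -/
structure TorusFamily (K : Subgroup G) (n k : ℕ) where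
  /-- the exceptional characters -/
  E : Finset (IrrCharacter G)
  /-- the common sign -/
  ε : ℤ
  /-- the constant part on the nontrivial elements of `K` -/
  c : IrrCharacter G → ℤ
  /-- the common constant of the family -/
  c₀ : ℤ
  card_E : E.card = k
  sign : ε = 1 ∨ ε = -1
  c_eq : ∀ e ∈ E, c e = c₀
  agree : ∀ e ∈ E, ∀ f ∈ E, ∀ y : G, (∀ x : G, x⁻¹ * y * x ∈ K → x⁻¹ * y * x = 1) →
    (e : G → ℂ) y = (f : G → ℂ) y
  val : ∀ χ : IrrCharacter G, χ ∉ E → ∀ x ∈ K, x ≠ 1 → (χ : G → ℂ) x = (c χ : ℂ)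
  cong_out : ∀ χ : IrrCharacter G, χ ∉ E → (n * k + 1 : ℤ) ∣ (charDegree (χ : G → ℂ) : ℤ) - c χ
  cong_in : ∀ χ : IrrCharacter G, χ ∈ E → (n * k + 1 : ℤ) ∣ (charDegree (χ : G → ℂ) : ℤ) - c₀ - n * ε
  nonconst : ∀ e ∈ E, ∃ x ∈ K, ∃ y ∈ K, x ≠ 1 ∧ y ≠ 1 ∧ (e : G → ℂ) x ≠ (e : G → ℂ) y
  separated : ∀ e ∈ E, ∀ f ∈ E, e ≠ f → ∃ x ∈ K, x ≠ 1 ∧ (e : G → ℂ) x ≠ (f : G → ℂ) x
  sum_val : ∀ x ∈ K, x ≠ 1 → ∑ e ∈ E, (e : G → ℂ) x = ((k * c₀ - ε : ℤ) : ℂ)
  sum_sq : ∀ x ∈ K, x ≠ 1 → ∑ e ∈ E, (e : G → ℂ) x * conj ((e : G → ℂ) x) =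
    ((k * c₀ ^ 2 - 2 * ε * c₀ + n * k + 1 - n : ℤ) : ℂ)

theorem exists_torusFamily (K : Subgroup G)
    (hTI : ∀ g : G, g ∉ (Subgroup.normalizer (K : Set G)) → ∀ k ∈ K, g * k * g⁻¹ ∈ K → k = 1)
    (hC : ∀ k ∈ K, k ≠ 1 → Subgroup.centralizer ({k} : Set G) ≤ K)
    (hab : ∀ a ∈ K, ∀ b ∈ K, a * b = b * a) {d k : ℕ} (hd : 0 < d) (hk2 : 2 ≤ k)
    (hK : Nat.card ↥K = d * k + 1)
    (hN : Nat.card ↥(Subgroup.normalizer (K : Set G)) = d * Nat.card ↥K) :
    Nonempty (TorusFamily K d k) := by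
  classical
  obtain ⟨εC, f, hεC, hf, hτ⟩ := CfsgLib.TIFNChar.exceptional_abelian hTI hC hab
  let KN := K.subgroupOf (Subgroup.normalizer (K : Set G))
  have : Fintype ↥(Subgroup.normalizer (K : Set G)) := Fintype.ofFinite _
  have : KN.Normal := Subgroup.normal_in_normalizer
  have hcardKN : Nat.card ↥KN = d * k + 1 := by
    rw [Nat.card_congr (Subgroup.subgroupOfEquivOfLe (Subgroup.le_normalizer (H := K))).toEquiv, hK]
  have hidx : KN.index = d := by
    have h := Subgroup.card_mul_index KN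
    rw [hcardKN, hN, hK] at h
    exact Nat.eq_of_mul_eq_mul_left (Nat.succ_pos (d * k)) (h.trans (mul_comm _ _))
  have hfree := CfsgLib.TIFNChar.free (K := K) hC
  have hdeg : ∀ η : IrrCharacter ↥(Subgroup.normalizer (K : Set G)), Relevant KN (η : ↥(Subgroup.normalizer (K : Set G)) → ℂ) → (η : ↥(Subgroup.normalizer (K : Set G)) → ℂ) 1 = d := by
    intro η hη
    rw [CfsgLib.TIFNChar.degree_eq_index hC hab hη]
    exact_mod_cast hidx
  -- the number of relevant characters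
  have hcard : (relSet KN).card = k := by
    have h := sum_sq_degrees (G := ↥(Subgroup.normalizer (K : Set G)))
    simp only [sq] at h
    rw [← Finset.sum_add_sum_compl (relSet KN), sum_sq_irrelevant, hidx,
      Finset.sum_congr rfl (fun η hη => by rw [hdeg η (mem_relSet.1 hη)]), Finset.sum_const,
      nsmul_eq_mul, hN, hK] at h
    have h' : (relSet KN).card * (d * d) + d = d * (d * k + 1) := by exact_mod_cast h
    refine Nat.eq_of_mul_eq_mul_right (Nat.mul_pos hd hd) ?_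
    rw [mul_add, mul_one, Nat.add_right_cancel_iff] at h'
    rw [h']; ring
  -- the sums over the relevant characters
  have hsum1 : ∀ x ∈ KN, x ≠ 1 → ∑ η ∈ relSet KN, (η : ↥(Subgroup.normalizer (K : Set G)) → ℂ) x = -1 := by
    intro x hx hx1
    have h := sum_degree_mul_relevant hx hx1
    rw [Finset.sum_congr rfl (fun η hη => by rw [hdeg η (mem_relSet.1 hη)]), ← Finset.mul_sum, hidx] at h
    have hd0 : (d : ℂ) ≠ 0 := Nat.cast_ne_zero.2 hd.ne'
    refine mul_left_cancel₀ hd0 ?_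
    linear_combination h
  have hsum2 : ∀ x ∈ KN, x ≠ 1 →
      ∑ η ∈ relSet KN, (η : ↥(Subgroup.normalizer (K : Set G)) → ℂ) x * conj ((η : ↥(Subgroup.normalizer (K : Set G)) → ℂ) x) = (d : ℂ) * k + 1 - d := by
    intro x hx hx1
    have hcen : Subgroup.centralizer ({x} : Set ↥(Subgroup.normalizer (K : Set G))) = KN := by
      refine le_antisymm (fun y hy => ?_) (fun y hy => ?_)
      · exact hC (x : G) hx (fun h => hx1 (Subtype.ext h))
          (Subgroup.mem_centralizer_singleton_iff.2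
            (congrArg Subtype.val (Subgroup.mem_centralizer_singleton_iff.1 hy)))
      · exact Subgroup.mem_centralizer_singleton_iff.2 (Subtype.ext (hab _ hy _ hx))
    have h := column_orth (G := ↥(Subgroup.normalizer (K : Set G))) x x
    rw [if_pos (IsConj.refl x), hcen, hcardKN, ← Finset.sum_add_sum_compl (relSet KN)] at h
    have h2 : ∑ η ∈ (relSet KN)ᶜ, (η : ↥(Subgroup.normalizer (K : Set G)) → ℂ) x * conj ((η : ↥(Subgroup.normalizer (K : Set G)) → ℂ) x) = d := by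
      rw [Finset.sum_congr rfl (fun η hη => by
        rw [eq_on_of_notMem hη hx, CfsgLib.Chars17.conj_irr_one]), sum_sq_irrelevant, hidx]
    rw [h2] at h
    push_cast at h
    linear_combination h
  -- the sign
  obtain ⟨ε, hε, hεval⟩ : ∃ ε : ℤ, (ε = 1 ∨ ε = -1) ∧ εC = (ε : ℂ) := by
    rcases hεC with h | h
    · exact ⟨1, Or.inl rfl, by rw [h, Int.cast_one]⟩
    · exact ⟨-1, Or.inr rfl, by rw [h]; norm_num⟩
  have hεsq : (ε : ℂ) * ε = 1 := by rcases hε with h | h <;> rw [h] <;> norm_num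
  have hcl : ∀ η ξ : IrrCharacter ↥(Subgroup.normalizer (K : Set G)), IsClassFunction ↥(Subgroup.normalizer (K : Set G)) ((η : ↥(Subgroup.normalizer (K : Set G)) → ℂ) - (ξ : ↥(Subgroup.normalizer (K : Set G)) → ℂ)) :=
    fun η ξ => isClassFunction_sub (irr_isClassFunction η) (irr_isClassFunction ξ)
  have hsupp : ∀ η ξ : IrrCharacter ↥(Subgroup.normalizer (K : Set G)), Relevant KN (η : ↥(Subgroup.normalizer (K : Set G)) → ℂ) → Relevant KN (ξ : ↥(Subgroup.normalizer (K : Set G)) → ℂ) →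
      ∀ x : ↥(Subgroup.normalizer (K : Set G)), x ∉ KN → ((η : ↥(Subgroup.normalizer (K : Set G)) → ℂ) - (ξ : ↥(Subgroup.normalizer (K : Set G)) → ℂ)) x = 0 := fun η ξ hη hξ x hx => by
    simp [vanish_off hfree η.2 hη hx, vanish_off hfree ξ.2 hξ hx]
  let Rel' := {χ : IrrCharacter ↥(Subgroup.normalizer (K : Set G)) // Relevant KN (χ : ↥(Subgroup.normalizer (K : Set G)) → ℂ)}
  -- the values of the differences
  have hdiff : ∀ (η ξ : Rel') (x : ↥(Subgroup.normalizer (K : Set G))), (ε : ℂ) * ((f η : G → ℂ) x - (f ξ : G → ℂ) x) =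
      (η.1 : ↥(Subgroup.normalizer (K : Set G)) → ℂ) x - (ξ.1 : ↥(Subgroup.normalizer (K : Set G)) → ℂ) x := by
    intro η ξ x
    have h := congrFun (CfsgLib.TIFNChar.res_ind hTI hC (hcl η.1 ξ.1) (hsupp η.1 ξ.1 η.2 ξ.2)
      (by simp [hdeg _ η.2, hdeg _ ξ.2])) x
    rw [hτ η ξ, hεval] at h
    simpa using h
  have hoff : ∀ (η ξ : Rel') (y : G), (∀ x : G, x⁻¹ * y * x ∈ K → x⁻¹ * y * x = 1) →
      (f η : G → ℂ) y = (f ξ : G → ℂ) y := by
    intro η ξ y hy
    have h := congrFun (hτ η ξ) y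
    have h0 : indFun (Subgroup.normalizer (K : Set G)) ((η.1 : ↥(Subgroup.normalizer (K : Set G)) → ℂ) - (ξ.1 : ↥(Subgroup.normalizer (K : Set G)) → ℂ)) y = 0 := by
      rw [CfsgLib.Induction.indFun_apply]
      refine mul_eq_zero_of_right _ (Finset.sum_eq_zero fun x _ => ?_)
      by_cases hx : x⁻¹ * y * x ∈ (Subgroup.normalizer (K : Set G))
      · rw [show x⁻¹ * y * x = ((⟨_, hx⟩ : ↥(Subgroup.normalizer (K : Set G))) : G) from rfl,
          CfsgLib.Induction.extendByZero_mem _ _ (Subtype.mem _)]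
        by_cases hxK : x⁻¹ * y * x ∈ K
        · have h1 : (⟨_, hx⟩ : ↥(Subgroup.normalizer (K : Set G))) = 1 := Subtype.ext (hy x hxK)
          simp [h1, hdeg _ η.2, hdeg _ ξ.2]
        · exact hsupp η.1 ξ.1 η.2 ξ.2 _ hxK
      · exact CfsgLib.Induction.extendByZero_notMem _ _ hx
    rw [h0, hεval, Pi.smul_apply, Pi.sub_apply, smul_eq_mul, eq_comm, mul_eq_zero] at h
    exact sub_eq_zero.1 (h.resolve_left (fun h0 => by rw [h0, zero_mul] at hεsq; exact zero_ne_one hεsq))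
  obtain ⟨η₀⟩ : Nonempty Rel' := by
    obtain ⟨η, hη⟩ := Finset.card_pos.1 (hcard.symm ▸ (by omega) : 0 < (relSet KN).card)
    exact ⟨⟨η, mem_relSet.1 hη⟩⟩
  -- multiplicities in the restriction
  have hmult : ∀ (χ : IrrCharacter G) (η : IrrCharacter ↥(Subgroup.normalizer (K : Set G))), ∃ n : ℕ,
      classInner (fun x : ↥(Subgroup.normalizer (K : Set G)) => (χ : G → ℂ) x) (η : ↥(Subgroup.normalizer (K : Set G)) → ℂ) = n := fun χ η =>
    classInner_char_nat (CfsgLib.Clifford.isCharacter_subtype (irr_isCharacter χ) (Subgroup.normalizer (K : Set G))) (irr_isCharacter η)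
  choose n hn using hmult
  have hcross : ∀ (χ : IrrCharacter G) (η ξ : Rel'), (n χ η.1 : ℤ) - n χ ξ.1 =
      ε * ((if χ = f η then 1 else 0) - (if χ = f ξ then 1 else 0)) := by
    intro χ η ξ
    have h := CfsgLib.Induction.classInner_indFun_right (Subgroup.normalizer (K : Set G)) ((η.1 : ↥(Subgroup.normalizer (K : Set G)) → ℂ) - (ξ.1 : ↥(Subgroup.normalizer (K : Set G)) → ℂ))
      (irr_isClassFunction χ)
    rw [hτ η ξ, hεval, classInner_smul_right, classInner_sub_right, classInner_sub_right, hn, hn,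
      classInner_irr, classInner_irr, map_intCast] at h
    have h' : ((((n χ η.1 : ℤ) - n χ ξ.1) : ℤ) : ℂ) =
        ((ε * ((if χ = f η then 1 else 0) - (if χ = f ξ then 1 else 0)) : ℤ) : ℂ) := by
      push_cast
      linear_combination -h
    exact_mod_cast h'
  let E : Finset (IrrCharacter G) := Finset.univ.image f
  let M : IrrCharacter G → ℤ := fun χ => (n χ η₀.1 : ℤ) - ε * (if χ = f η₀ then 1 else 0)
  have hn' : ∀ (χ : IrrCharacter G) (η : Rel'), (n χ η.1 : ℤ) = M χ + ε * (if χ = f η then 1 else 0) :=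
    fun χ η => by simp only [M]; linear_combination hcross χ η η₀
  let c : IrrCharacter G → ℤ := fun χ =>
    (charDegree (χ : G → ℂ) : ℤ) - d * (∑ η ∈ relSet KN, (n χ η : ℤ)) - M χ
  have hexp : ∀ (χ : IrrCharacter G) (x : ↥(Subgroup.normalizer (K : Set G))), x ∈ KN → x ≠ 1 → (χ : G → ℂ) x =
      (c χ : ℂ) + ∑ η : Rel', (ε : ℂ) * (if χ = f η then 1 else 0) * (η.1 : ↥(Subgroup.normalizer (K : Set G)) → ℂ) x := by
    intro χ x hx hx1
    obtain ⟨C, hC'⟩ := expansion (K := KN)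
      (φ := fun x : ↥(Subgroup.normalizer (K : Set G)) => (χ : G → ℂ) x) (fun a b => irr_isClassFunction χ (a : G) (b : G))
    have e1 := hC' 1 (one_mem _)
    have ex := hC' x hx
    simp only [hn] at e1 ex
    rw [Finset.sum_congr rfl (fun η hη => by rw [hdeg η (mem_relSet.1 hη)]), ← Finset.sum_mul,
      OneMemClass.coe_one, ← CfsgLib.Chars17.cast_irrDegree] at e1
    have e2 : ∑ η ∈ relSet KN, (n χ η : ℂ) * (η : ↥(Subgroup.normalizer (K : Set G)) → ℂ) x = -(M χ : ℂ) +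
        ∑ η : Rel', (ε : ℂ) * (if χ = f η then 1 else 0) * (η.1 : ↥(Subgroup.normalizer (K : Set G)) → ℂ) x := by
      rw [Finset.sum_subtype (relSet KN) (p := fun η : IrrCharacter ↥(Subgroup.normalizer (K : Set G)) => Relevant KN (η : ↥(Subgroup.normalizer (K : Set G)) → ℂ))
        (fun η => mem_relSet)]
      trans ∑ η : Rel', ((M χ : ℂ) * (η.1 : ↥(Subgroup.normalizer (K : Set G)) → ℂ) x +
        (ε : ℂ) * (if χ = f η then 1 else 0) * (η.1 : ↥(Subgroup.normalizer (K : Set G)) → ℂ) x)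
      · refine Finset.sum_congr rfl fun η _ => ?_
        have := congrArg (fun z : ℤ => (z : ℂ)) (hn' χ η)
        push_cast at this
        rw [this]
        ring
      · rw [Finset.sum_add_distrib, ← Finset.mul_sum,
          ← Finset.sum_subtype (relSet KN) (fun η => mem_relSet) (fun η => (η : ↥(Subgroup.normalizer (K : Set G)) → ℂ) x),
          hsum1 x hx hx1]
        ring
    rw [ex, e2]
    simp only [c]
    push_cast
    linear_combination -e1
  have hout : ∀ χ, χ ∉ E → ∀ η : Rel', χ ≠ f η := fun χ hχ η h =>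
    hχ (Finset.mem_image.2 ⟨η, Finset.mem_univ _, h.symm⟩)
  have hin : ∀ (η : Rel') (x : ↥(Subgroup.normalizer (K : Set G))), x ∈ KN → x ≠ 1 →
      (f η : G → ℂ) x = (c (f η) : ℂ) + (ε : ℂ) * (η.1 : ↥(Subgroup.normalizer (K : Set G)) → ℂ) x := by
    intro η x hx hx1
    rw [hexp _ x hx hx1, Finset.sum_eq_single η]
    · simp
    · intro ξ _ hξ
      rw [if_neg (fun h => hξ (hf h).symm)]
      ring
    · simp
  have hcards : Fintype.card Rel' = k := by
    rw [Fintype.card_of_subtype (relSet KN) (fun η => mem_relSet), hcard]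
  have hsumn : ∀ χ : IrrCharacter G, ∑ η ∈ relSet KN, (n χ η : ℤ) =
      k * M χ + ∑ η : Rel', ε * (if χ = f η then 1 else 0) := by
    intro χ
    rw [Finset.sum_subtype (relSet KN) (p := fun η : IrrCharacter ↥(Subgroup.normalizer (K : Set G)) => Relevant KN (η : ↥(Subgroup.normalizer (K : Set G)) → ℂ))
      (fun η => mem_relSet), Finset.sum_congr rfl (fun η _ => hn' χ η), Finset.sum_add_distrib,
      Finset.sum_const, Finset.card_univ, hcards, nsmul_eq_mul]
  -- lifting the elements of `K`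
  have hlift : ∀ x ∈ K, x ≠ 1 → ∃ y : ↥(Subgroup.normalizer (K : Set G)), (y : G) = x ∧ y ∈ KN ∧ y ≠ 1 := fun x hx hx1 =>
    ⟨⟨x, Subgroup.le_normalizer hx⟩, rfl, hx, fun h => hx1 (congrArg Subtype.val h)⟩
  obtain ⟨x₀, hx₀, hx₀1⟩ : ∃ x : ↥(Subgroup.normalizer (K : Set G)), x ∈ KN ∧ x ≠ 1 := by
    obtain ⟨a, ha, ha1⟩ := η₀.2
    exact ⟨a, ha, fun h => ha1 (h ▸ rfl)⟩
  have hc0 : ∀ η : Rel', c (f η) = c (f η₀) := by
    intro η
    have h := hdiff η η₀ x₀
    rw [hin η x₀ hx₀ hx₀1, hin η₀ x₀ hx₀ hx₀1] at h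
    have h' : (c (f η) : ℂ) = (c (f η₀) : ℂ) := by
      linear_combination (ε : ℂ) * h + ((η₀.1 : ↥(Subgroup.normalizer (K : Set G)) → ℂ) x₀ * ε - (η.1 : ↥(Subgroup.normalizer (K : Set G)) → ℂ) x₀ * ε - (c (f η) : ℂ) + (c (f η₀) : ℂ)) * hεsq
    exact_mod_cast h'
  refine ⟨{ E := E, ε := ε, c := c, c₀ := c (f η₀), card_E := ?_, sign := hε, c_eq := ?_,
            agree := ?_, val := ?_, cong_out := ?_, cong_in := ?_, nonconst := ?_, separated := ?_,
            sum_val := ?_, sum_sq := ?_ }⟩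
  · simp only [E, Finset.card_image_of_injective _ hf, Finset.card_univ]
    exact hcards
  · intro e he
    obtain ⟨η, -, rfl⟩ := Finset.mem_image.1 he
    exact hc0 η
  · intro e he e' he' y hy
    obtain ⟨η, -, rfl⟩ := Finset.mem_image.1 he
    obtain ⟨ξ, -, rfl⟩ := Finset.mem_image.1 he'
    exact hoff η ξ y hy
  · intro χ hχ x hx hx1
    obtain ⟨y, rfl, hy, hy1⟩ := hlift x hx hx1
    rw [hexp χ y hy hy1, Finset.sum_eq_zero (fun η _ => by rw [if_neg (hout χ hχ η)]; ring), add_zero]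
  · intro χ hχ
    refine ⟨M χ, ?_⟩
    simp only [c]
    rw [hsumn, Finset.sum_eq_zero (fun η _ => by rw [if_neg (hout χ hχ η), mul_zero])]
    ring
  · intro χ hχ
    obtain ⟨η, -, rfl⟩ := Finset.mem_image.1 hχ
    refine ⟨M (f η), ?_⟩
    rw [← hc0 η]
    simp only [c]
    rw [hsumn, Finset.sum_eq_single η (fun ξ _ hξ => by rw [if_neg (fun h => hξ (hf h).symm), mul_zero])
      (fun h => absurd (Finset.mem_univ η) h), if_pos rfl]
    ring
  · intro e he
    obtain ⟨η, -, rfl⟩ := Finset.mem_image.1 he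
    have : Nontrivial Rel' := Fintype.one_lt_card_iff_nontrivial.1 (by omega)
    obtain ⟨ξ, hξ⟩ := exists_ne η
    obtain ⟨a, ha, b, hb, ha1, hb1, hne⟩ := exists_ne_of_two hfree η.2 ξ.2 (fun h => hξ (Subtype.ext h).symm)
    refine ⟨a, ha, b, hb, fun h => ha1 (Subtype.ext h), fun h => hb1 (Subtype.ext h), fun h => hne ?_⟩
    rw [hin η a ha ha1, hin η b hb hb1, add_right_inj] at h
    exact mul_left_cancel₀ (fun h0 => by rw [h0, zero_mul] at hεsq; exact zero_ne_one hεsq) h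
  · intro e he e' he' hne
    obtain ⟨η, -, rfl⟩ := Finset.mem_image.1 he
    obtain ⟨ξ, -, rfl⟩ := Finset.mem_image.1 he'
    by_contra hcon
    push Not at hcon
    apply hne
    refine congrArg f (Subtype.ext (Subtype.ext (funext fun x => ?_)))
    by_cases hx : x ∈ KN
    · by_cases hx1 : x = 1
      · rw [hx1, hdeg _ η.2, hdeg _ ξ.2]
      · have h := hdiff η ξ x
        rw [hcon (x : G) hx (fun h => hx1 (Subtype.ext h)), sub_self, mul_zero] at h
        exact sub_eq_zero.1 h.symm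
    · rw [vanish_off hfree η.1.2 η.2 hx, vanish_off hfree ξ.1.2 ξ.2 hx]
  · intro x hx hx1
    obtain ⟨y, rfl, hy, hy1⟩ := hlift x hx hx1
    simp only [E]
    rw [Finset.sum_image (fun a _ b _ h => hf h), Finset.sum_congr rfl (fun η _ => by
      rw [hin η y hy hy1, hc0 η]), Finset.sum_add_distrib, ← Finset.mul_sum,
      ← Finset.sum_subtype (relSet KN) (fun η => mem_relSet) (fun η => (η : ↥(Subgroup.normalizer (K : Set G)) → ℂ) y),
      hsum1 y hy hy1, Finset.sum_const, Finset.card_univ, hcards, nsmul_eq_mul]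
    push_cast
    ring
  · intro x hx hx1
    obtain ⟨y, rfl, hy, hy1⟩ := hlift x hx hx1
    simp only [E]
    rw [Finset.sum_image (fun a _ b _ h => hf h), Finset.sum_congr rfl (fun η _ => by
      rw [hin η y hy hy1, hc0 η])]
    have hs : ∑ η : Rel', (η.1 : ↥(Subgroup.normalizer (K : Set G)) → ℂ) y = -1 := by
      rw [← Finset.sum_subtype (relSet KN) (fun η => mem_relSet) (fun η => (η : ↥(Subgroup.normalizer (K : Set G)) → ℂ) y), hsum1 y hy hy1]
    have hs2 : ∑ η : Rel', (η.1 : ↥(Subgroup.normalizer (K : Set G)) → ℂ) y * conj ((η.1 : ↥(Subgroup.normalizer (K : Set G)) → ℂ) y) = (d : ℂ) * k + 1 - d := by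
      rw [← Finset.sum_subtype (relSet KN) (fun η => mem_relSet)
        (fun η => (η : ↥(Subgroup.normalizer (K : Set G)) → ℂ) y * conj ((η : ↥(Subgroup.normalizer (K : Set G)) → ℂ) y)), hsum2 y hy hy1]
    have hs3 : ∑ η : Rel', conj ((η.1 : ↥(Subgroup.normalizer (K : Set G)) → ℂ) y) = -1 := by
      rw [← map_sum, hs, map_neg, map_one]
    set C := (c (f η₀) : ℂ) with hCdef
    trans ∑ η : Rel', (C * C + C * ε * conj ((η.1 : ↥(Subgroup.normalizer (K : Set G)) → ℂ) y) + C * ε * (η.1 : ↥(Subgroup.normalizer (K : Set G)) → ℂ) y +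
      (η.1 : ↥(Subgroup.normalizer (K : Set G)) → ℂ) y * conj ((η.1 : ↥(Subgroup.normalizer (K : Set G)) → ℂ) y))
    · refine Finset.sum_congr rfl fun η _ => ?_
      rw [map_add, map_mul, hCdef, map_intCast, map_intCast]
      linear_combination ((η.1 : ↥(Subgroup.normalizer (K : Set G)) → ℂ) y * conj ((η.1 : ↥(Subgroup.normalizer (K : Set G)) → ℂ) y)) * hεsq
    · simp only [Finset.sum_add_distrib, ← Finset.mul_sum, hs, hs2, hs3, Finset.sum_const,
        Finset.card_univ, hcards, nsmul_eq_mul, hCdef]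
      push_cast
      ring

end CfsgLib.ReeSq
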