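import Cfsg.Agent.S2455
import Cfsg.Agent.Lib.SmallRee.ToriResults
import Cfsg.Agent.Lib.SmallRee.SylowTwo

/-!
# Products of two conjugates inside the centraliser of an involution
-/

set_option autoImplicit false
set_option linter.style.haveILetI false

namespace CfsgLib.ReeSq

open CfsgLib.SmallRee Subgroup Matrix CfsgLib.SpecLin CfsgLib.SpecLin.SLTwo

universe u v

variable {F : Type v} [Field F] [Fintype F]

local notation "PSL2" => Matrix.ProjectiveSpecialLinearGroup (Fin 2) F

/-- Elements of order greater than two and prime to the characteristic are real in `PSL₂`. -/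
theorem psl_real {p : ℕ} [Fact p.Prime] [CharP F p] (hp : p ≠ 2) {y : PSL2} (hy2 : 2 < orderOf y)
    (hyp : ¬ p ∣ orderOf y) : IsConj y y⁻¹ := by
  classical
  obtain ⟨X, rfl⟩ := QuotientGroup.mk_surjective y
  have hy1 : (QuotientGroup.mk X : PSL2) ≠ 1 := fun h => by rw [h, orderOf_one] at hy2; omega
  have hy1' : (QuotientGroup.mk X⁻¹ : PSL2) ≠ 1 := by
    rw [QuotientGroup.mk_inv]; exact inv_ne_one.2 hy1
  have h2 : (2 : F) ≠ 0 := Ring.two_ne_zero (by rw [ringChar.eq F p]; exact hp)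
  have ha4 : (X : Matrix (Fin 2) (Fin 2) F).trace ^ 2 ≠ 4 := fun h => by
    have hd : orderOf (QuotientGroup.mk X : PSL2) ∣ p := by
      apply orderOf_dvd_of_pow_eq_one
      rw [← QuotientGroup.mk_pow, QuotientGroup.eq_one_iff]
      exact pow_char_mem_center p h
    rcases (Nat.dvd_prime (Fact.out : p.Prime)).1 hd with h1 | h1
    · omega
    · exact hyp (h1 ▸ dvd_rfl)
  have htr : (X : Matrix (Fin 2) (Fin 2) F).trace = ((X⁻¹ : Matrix.SpecialLinearGroup (Fin 2) F) : Matrix (Fin 2) (Fin 2) F).trace := by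
    rw [Matrix.SpecialLinearGroup.coe_inv, Matrix.adjugate_fin_two, Matrix.trace_fin_two, Matrix.trace_fin_two]
    simp [add_comm]
  have h := isConj_of_trace_eq (Or.inr ha4) (not_scalar_of_mk_ne_one hy1) (not_scalar_of_mk_ne_one hy1') htr
  have h' := (QuotientGroup.mk' (Subgroup.center (Matrix.SpecialLinearGroup (Fin 2) F))).map_isConj h
  simpa using h'

variable {G : Type u} [Group G] [Finite G] {q a r : ℕ}

/-- In the centraliser of `t`: reality and products of two conjugates. -/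
theorem pair_in_centralizer [CharP F 3] (D : ToriData G q a r) (h5 : 5 ≤ Fintype.card F)
    (e : ↥(centralizer ({D.t} : Set G)) ≃* Multiplicative (ZMod 2) × PSL2)
    {x : G} (hx : Commute D.t x) (hx2 : 2 < orderOf x) (hx3 : ¬ 3 ∣ orderOf x) :
    IsConj x x⁻¹ ∧ (∀ g : G, g ≠ 1 → (g = D.t ∨ (Commute D.t g ∧ g ^ 3 = 1)) →
      ∃ u v : G, g = (u * x * u⁻¹) * (v * x * v⁻¹)) := by
  classical
  haveI := Fact.mk Nat.prime_three
  haveI := Fintype.ofFinite G
  have hzz : ∀ z : Multiplicative (ZMod 2), z * z = 1 := by decide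
  have hmem : ∀ {g : G}, Commute D.t g → g ∈ centralizer ({D.t} : Set G) := fun h =>
    mem_centralizer_singleton_iff.2 h.eq.symm
  set C := centralizer ({D.t} : Set G)
  let ψ : Multiplicative (ZMod 2) × PSL2 →* G := C.subtype.comp e.symm.toMonoidHom
  have hψi : Function.Injective ψ := C.subtype_injective.comp e.symm.injective
  have hψ : ∀ {g : G} (hg : Commute D.t g), ψ (e ⟨g, hmem hg⟩) = g := fun hg => by simp [ψ]
  have hψc : ∀ p, Commute D.t (ψ p) := fun p => (mem_centralizer_singleton_iff.1 (e.symm p).2).symm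
  set p := e ⟨x, hmem hx⟩ with hp
  obtain ⟨z, y⟩ := p
  have hxe : ψ (z, y) = x := by rw [hp]; exact hψ hx
  have hord : orderOf x = orderOf ((z, y) : Multiplicative (ZMod 2) × PSL2) := by
    rw [← hxe, orderOf_injective ψ hψi]
  have hy2 : 2 < orderOf y := by
    by_contra hle
    push Not at hle
    have hpw : x ^ 2 = 1 := by
      rw [← hxe, ← map_pow, Prod.pow_mk, pow_two, hzz z]
      have : y ^ 2 = 1 := by
        have := orderOf_pos y
        interval_cases h : orderOf y
        · rw [orderOf_eq_one_iff.1 h, one_pow]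
        · exact orderOf_dvd_iff_pow_eq_one.1 h.dvd
      rw [this]; exact map_one ψ
    have := Nat.le_of_dvd Nat.two_pos (orderOf_dvd_of_pow_eq_one hpw)
    omega
  have hy3 : ¬ 3 ∣ orderOf y := fun h => hx3 (h.trans (hord ▸ by rw [Prod.orderOf]; exact Nat.dvd_lcm_right _ _))
  refine ⟨?_, ?_⟩
  · obtain ⟨c, hc⟩ := isConj_iff.1 (psl_real (p := 3) (by norm_num) hy2 hy3)
    refine isConj_iff.2 ⟨ψ (1, c), ?_⟩
    rw [← hxe, ← map_inv, ← map_mul, ← map_inv, ← map_mul]
    congr 1
    refine Prod.ext ?_ hc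
    show 1 * z * (1 : Multiplicative (ZMod 2))⁻¹ = z⁻¹
    rw [one_mul, inv_one, mul_one, eq_inv_iff_mul_eq_one, hzz]
  -- elements of the simple factor
  have key : ∀ w : PSL2, w ≠ 1 → ∃ u v : G, ψ (1, w) = (u * x * u⁻¹) * (v * x * v⁻¹) := by
    intro w hw
    obtain ⟨u, v, huv⟩ := Cfsg.Agent.S2455.result 3 (by norm_num) h5 y hy2 hy3 w hw
    refine ⟨ψ (1, u), ψ (1, v), ?_⟩
    rw [← hxe]
    simp only [← map_mul, ← map_inv, Prod.mk_mul_mk, Prod.inv_mk, one_mul, inv_one, mul_one, hzz, huv]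
  intro g hg hcase
  rcases hcase with rfl | ⟨hc, h3⟩
  · obtain ⟨j, hj⟩ : ∃ j : PSL2, orderOf j = 2 := by
      haveI := Fact.mk Nat.prime_two
      haveI : Fintype PSL2 := Fintype.ofFinite _
      have hC : Nat.card C = 2 * Nat.card PSL2 := by
        rw [Nat.card_congr e.toEquiv, Nat.card_prod, Nat.card_eq_fintype_card, Fintype.card_multiplicative,
          ZMod.card]
      have h2 : 2 ∣ Nat.card PSL2 := by
        have h := D.card_cent
        rw [show Nat.card (centralizer ({D.t} : Set G)) = Nat.card C from rfl, hC, D.q_sq_sub,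
          show q * (4 * a * (q - 1)) = 2 * (2 * (q * a * (q - 1))) by ring] at h
        exact ⟨_, Nat.eq_of_mul_eq_mul_left Nat.two_pos h⟩
      exact exists_prime_orderOf_dvd_card' 2 h2
    have hj1 : j ≠ 1 := fun e' => by rw [e', orderOf_one] at hj; omega
    set i := ψ (1, j)
    have hi : i * i = 1 := by
      rw [← map_mul, Prod.mk_mul_mk, one_mul, ← pow_two j, orderOf_dvd_iff_pow_eq_one.1 hj.dvd]; exact map_one ψ
    have hi1 : i ≠ 1 := fun e' => hj1 (congrArg Prod.snd (hψi (e'.trans (map_one ψ).symm)))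
    obtain ⟨k, hk⟩ := D.isConj_invol hi hi1
    obtain ⟨u, v, huv⟩ := key j hj1
    refine ⟨k⁻¹ * u, k⁻¹ * v, ?_⟩
    calc D.t = k⁻¹ * (k * D.t * k⁻¹) * k := by group
      _ = k⁻¹ * (u * x * u⁻¹ * (v * x * v⁻¹)) * k := by rw [hk, ← huv]
      _ = _ := by group
  · set p := e ⟨g, hmem hc⟩ with hpg
    obtain ⟨z', w⟩ := p
    have hge : ψ (z', w) = g := by rw [hpg]; exact hψ hc
    have hz' : z' = 1 := by
      have h : ((z', w) : Multiplicative (ZMod 2) × PSL2) ^ 3 = 1 :=
        hψi (by rw [map_pow, hge, h3, map_one])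
      have h' : z' ^ 3 = 1 := congrArg Prod.fst h
      rwa [pow_succ, pow_two, hzz, one_mul] at h'
    subst hz'
    obtain ⟨u, v, huv⟩ := key w (fun e' => hg (by rw [← hge, e']; exact map_one ψ))
    exact ⟨u, v, hge ▸ huv⟩

end CfsgLib.ReeSq
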