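import Cfsg.Agent.Lib.ReeSquare.Unip
import Cfsg.Agent.Lib.ReeDeg.Main
import Cfsg.Agent.Lib.SmallRee.ToriInst

/-!
# The layers of the unipotent radical of a small Ree group
-/

set_option autoImplicit false
set_option linter.unusedSectionVars false

namespace CfsgLib.ReeSq

open Cfsg.Lie CfsgLib.ChevStr CfsgLib.Twisted CfsgLib.SmallRee CfsgLib.ReeDeg

variable {K : Type*} [Field K] [Fintype K] [DecidableEq K] {m : ℕ} [CharP K 3]
  (hn : Fintype.card K = 3 * (3 ^ m * 3 ^ m))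

/-- The element `U(0, u, v)` as a homomorphism. -/
noncomputable def midHom : Multiplicative (Fin 2 → K) →* ↥(twistedG2 K (3 ^ m)) :=
  MonoidHom.mk' (fun w => midElt m w.toAdd) fun v w => (midElt_add v.toAdd w.toAdd).symm

theorem midHom_injective : Function.Injective (midHom (K := K) (m := m)) := by
  intro v w h
  have h' := congrArg (fun x : ↥(twistedG2 K (3 ^ m)) => (x : GL chevG2.Idx K)) h
  obtain ⟨-, h0, h1⟩ := uni_inj K m h'
  refine Multiplicative.toAdd.injective (funext fun i => ?_)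
  fin_cases i
  · exact h0
  · exact h1

/-- The element `U(0, 0, v)` as a homomorphism. -/
noncomputable def topHom : Multiplicative K →* ↥(twistedG2 K (3 ^ m)) :=
  MonoidHom.mk' (fun v => midElt m ![0, v.toAdd]) fun v w => by
    rw [midElt_add]
    congr 1
    funext i
    fin_cases i <;> simp

theorem topHom_apply (v : Multiplicative K) :
    ((topHom (m := m) v : ↥(twistedG2 K (3 ^ m))) : GL chevG2.Idx K) = uni K m 0 0 v.toAdd := rfl

theorem midHom_apply (w : Multiplicative (Fin 2 → K)) :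
    ((midHom (m := m) w : ↥(twistedG2 K (3 ^ m))) : GL chevG2.Idx K) = uni K m 0 (w.toAdd 0) (w.toAdd 1) := rfl

theorem topHom_injective : Function.Injective (topHom (K := K) (m := m)) := by
  intro v w h
  have h' := congrArg (fun x : ↥(twistedG2 K (3 ^ m)) => (x : GL chevG2.Idx K)) h
  simp only [topHom_apply] at h'
  exact Multiplicative.toAdd.injective (uni_inj K m h').2.2

theorem mem_mid {g : ↥(twistedG2 K (3 ^ m))} :
    g ∈ (midHom (K := K) (m := m)).range ↔ ∃ u v : K, (g : GL chevG2.Idx K) = uni K m 0 u v := by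
  constructor
  · rintro ⟨w, rfl⟩
    exact ⟨_, _, midHom_apply w⟩
  · rintro ⟨u, v, h⟩
    exact ⟨Multiplicative.ofAdd ![u, v], Subtype.ext (by rw [midHom_apply, h]; simp)⟩

theorem mem_top' {g : ↥(twistedG2 K (3 ^ m))} :
    g ∈ (topHom (K := K) (m := m)).range ↔ ∃ v : K, (g : GL chevG2.Idx K) = uni K m 0 0 v := by
  constructor
  · rintro ⟨w, rfl⟩
    exact ⟨_, topHom_apply w⟩
  · rintro ⟨v, h⟩
    exact ⟨Multiplicative.ofAdd v, Subtype.ext (by rw [topHom_apply, h]; rfl)⟩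

include hn

theorem conj_mid (t u v : K) :
    uni K m t 0 0 * uni K m 0 u v * (uni K m t 0 0)⁻¹ = uni K m 0 u (v + t * u) := by
  have hpos : uni K m t 0 0 ∈ chevG2.posUnipotent K := (Subgroup.mem_inf.1 (uni_mem_U1 K m t 0 0)).1
  have h0 : uni K m 0 u v = uni K m 0 u 0 * uni K m 0 0 v := by rw [uni_mid_add, add_zero, zero_add]
  rw [h0, ← mul_assoc (uni K m t 0 0), swap hn]
  simp only [mul_assoc]
  rw [← mul_assoc (uni K m 0 0 (t * u)), uni_mid_add, add_zero,
    ← ((uni_top_central (t * u + v) hpos).inv_left).eq, mul_inv_cancel_left, uni_mid_add, add_zero,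
    zero_add, add_comm]

theorem exists_unipData :
    Nonempty (UnipData (Uin (K := K) (m := m)) (Fintype.card K)) := by
  classical
  have hle : U1 K m ≤ twistedG2 K (3 ^ m) := inf_le_right
  have hU : ∀ g : ↥(twistedG2 K (3 ^ m)), g ∈ (Uin : Subgroup ↥(twistedG2 K (3 ^ m))) ↔
      (g : GL chevG2.Idx K) ∈ U1 K m := fun g => Iff.rfl
  have hU' : ∀ g : ↥(twistedG2 K (3 ^ m)), g ∈ (Uin : Subgroup ↥(twistedG2 K (3 ^ m))) →
      ∃ t u v, (g : GL chevG2.Idx K) = uni K m t u v := fun g hg => by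
    obtain ⟨t, u, v, h⟩ := exists_uni K hn ((hU g).1 hg)
    exact ⟨t, u, v, h.symm⟩
  have hsplit : ∀ t u v : K, ∃ y ∈ (coreG2 K).Ucl midSet, uni K m t u v = uni K m t 0 0 * y := by
    intro t u v
    refine ⟨(uni K m t 0 0)⁻¹ * uni K m t u v, ?_, by rw [mul_inv_cancel_left]⟩
    rw [uni_eq_top_mul, uni_eq_top_mul, _root_.mul_inv_rev, mul_assoc, inv_mul_cancel_left]
    exact mul_mem (inv_mem ((coreG2 K).wordGL_mem_Ucl (by simp [midSet, listSet])))
      ((coreG2 K).wordGL_mem_Ucl (by simp [midSet, listSet]))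
  refine ⟨{ Q := (midHom (K := K) (m := m)).range, Z := (topHom (K := K) (m := m)).range,
            Q_le := ?_, Z_le := ?_, card_Q := ?_, card_Z := ?_, Q_comm := ?_, Q_mem := ?_, Q_pow := ?_,
            Z_central := ?_, Z_conj := ?_, Z_invol := ?_, coset_conj := ?_, Q_invol := ?_, cent_Q := ?_ }⟩
  · rintro g hg
    obtain ⟨u, v, h⟩ := mem_mid.1 hg
    rw [hU, h]; exact uni_mem_U1 K m _ _ _
  · rintro g hg
    obtain ⟨v, h⟩ := mem_top'.1 hg
    exact mem_mid.2 ⟨0, v, h⟩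
  · rw [← Nat.card_congr (MonoidHom.ofInjective midHom_injective).toEquiv,
      Nat.card_congr Multiplicative.toAdd, Nat.card_fun, Nat.card_eq_fintype_card, Nat.card_fin]
  · rw [← Nat.card_congr (MonoidHom.ofInjective topHom_injective).toEquiv,
      Nat.card_congr Multiplicative.toAdd, Nat.card_eq_fintype_card]
  · rintro _ ⟨v, rfl⟩ _ ⟨w, rfl⟩
    exact (Commute.all v w).map midHom
  · intro g hg h3
    obtain ⟨t, u, v, h⟩ := hU' g hg
    have h' : uni K m t u v ^ 3 = 1 := by rw [← h, ← Subgroup.coe_pow, h3]; rfl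
    rw [uni_cube K hn, uni_eq_one_iff] at h'
    obtain rfl : t = 0 := (pow_eq_zero_iff (by omega)).1 (neg_eq_zero.1 h'.2.2)
    exact mem_mid.2 ⟨u, v, h⟩
  · intro g hg
    obtain ⟨u, v, h⟩ := mem_mid.1 hg
    refine Subtype.ext ?_
    rw [Subgroup.coe_pow, h]
    exact mid_pow_three K (uni_zero_mem_mid K u v)
  · intro z hz x hx
    obtain ⟨v, h⟩ := mem_top'.1 hz
    refine Subtype.ext ?_
    show (z : GL chevG2.Idx K) * x = (x : GL chevG2.Idx K) * z
    rw [h]
    exact (uni_top_central v (Subgroup.mem_inf.1 ((hU x).1 hx)).1).eq.symm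
  · intro z hz hz1 z' hz' hz1'
    obtain ⟨v, h⟩ := mem_top'.1 hz
    obtain ⟨v', h'⟩ := mem_top'.1 hz'
    have hv : v ≠ 0 := fun e => hz1 (Subtype.ext (by rw [h, e, uni_zero]; rfl))
    have hv' : v' ≠ 0 := fun e => hz1' (Subtype.ext (by rw [h', e, uni_zero]; rfl))
    obtain ⟨l, hl⟩ := exists_pow hn (div_ne_zero hv' hv)
    refine isConj_iff.2 ⟨⟨tau K m l, (Subgroup.mem_inf.1 (tau_mem_H1 K hn l)).2⟩, Subtype.ext ?_⟩
    simp only [Subgroup.coe_mul, InvMemClass.coe_inv, h, h']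
    rw [tau_conj_uni K hn, hl, mul_zero, mul_zero, div_mul_cancel₀ v' hv]
  · intro z hz hz1 i hi hi1 hc
    obtain ⟨v, h⟩ := mem_top'.1 hz
    have hv : v ≠ 0 := fun e => hz1 (Subtype.ext (by rw [h, e, uni_zero]; rfl))
    have hzU : (z : GL chevG2.Idx K) ∈ U1 K m := h ▸ uni_mem_U1 K m _ _ _
    have hcz : (i : GL chevG2.Idx K) * z = (z : GL chevG2.Idx K) * i := congrArg Subtype.val hc.eq
    have hiB : (i : GL chevG2.Idx K) ∈ B1 K m := by
      by_contra hB
      refine hz1 (Subtype.ext (eq_one_of_conj hn i.2 hB hzU ?_))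
      rw [hcz, mul_inv_cancel_right]; exact hzU
    obtain ⟨u, hu, y, hy, e⟩ := (mem_B1 hn).1 hiB
    obtain ⟨l, rfl⟩ := H1_le K hn hy
    have e1 : uni K m 0 0 ((l : K) ^ (3 * 3 ^ m + 2) * v) = uni K m 0 0 v := by
      have h1 := tau_conj_uni K hn l 0 0 v
      rw [mul_zero, mul_zero] at h1
      have h2 : u * tau K m l * uni K m 0 0 v = uni K m 0 0 v * (u * tau K m l) := by rw [e, ← h, hcz]
      rw [← h1]
      calc tau K m l * uni K m 0 0 v * (tau K m l)⁻¹ = u⁻¹ * (u * tau K m l * uni K m 0 0 v) * (tau K m l)⁻¹ := by group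
        _ = u⁻¹ * (uni K m 0 0 v * u) := by rw [h2]; group
        _ = uni K m 0 0 v := by
          rw [← (uni_top_central v (Subgroup.mem_inf.1 hu).1).eq, inv_mul_cancel_left]
    have hl : l = 1 := pow_inj hn (by
      rw [Units.val_one, one_pow]
      exact mul_right_cancel₀ hv ((uni_inj K m e1).2.2.trans (one_mul v).symm))
    subst hl
    rw [map_one, mul_one] at e
    obtain ⟨t, u', v', hu'⟩ := exists_uni K hn hu
    refine hi1 (Subtype.ext ?_)
    have h9 : (i : GL chevG2.Idx K) ^ 9 = 1 := by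
      rw [← e, ← hu', show 9 = 3 * 3 from rfl, pow_mul, uni_cube K hn, uni_cube K hn, zero_pow (by omega),
        neg_zero, uni_zero]
    have h2 : (i : GL chevG2.Idx K) ^ 2 = 1 := by rw [pow_two]; exact congrArg Subtype.val hi
    rw [show 9 = 2 * 4 + 1 from rfl, pow_succ, pow_mul, h2, one_pow, one_mul] at h9
    exact h9
  · intro p hp hpZ z hz
    obtain ⟨u, v, h⟩ := mem_mid.1 hp
    obtain ⟨w, hw⟩ := mem_top'.1 hz
    have hu : u ≠ 0 := fun e => hpZ (mem_top'.2 ⟨v, by rw [h, e]⟩)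
    refine isConj_iff.2 ⟨⟨uni K m (w / u) 0 0, hle (uni_mem_U1 K m _ _ _)⟩, Subtype.ext ?_⟩
    simp only [Subgroup.coe_mul, InvMemClass.coe_inv, h, hw]
    rw [conj_mid hn, uni_mid_add, add_zero, div_mul_cancel₀ w hu]
  · intro p hp hpZ
    obtain ⟨u, v, h⟩ := mem_mid.1 hp
    have hu : u ≠ 0 := fun e => hpZ (mem_top'.2 ⟨v, by rw [h, e]⟩)
    set x : ↥(twistedG2 K (3 ^ m)) := ⟨uni K m (v / u) 0 0, hle (uni_mem_U1 K m _ _ _)⟩ with hx
    set t : ↥(twistedG2 K (3 ^ m)) := ⟨invol K m, (Subgroup.mem_inf.1 (invol_mem_H1 hn)).2⟩ with ht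
    set p₀ : ↥(twistedG2 K (3 ^ m)) := ⟨uni K m 0 u 0, hle (uni_mem_U1 K m _ _ _)⟩ with hp₀
    have hp' : x * p₀ * x⁻¹ = p := Subtype.ext (by
      simp only [Subgroup.coe_mul, InvMemClass.coe_inv, hx, hp₀, h]
      rw [conj_mid hn, zero_add, div_mul_cancel₀ v hu])
    refine ⟨x * t * x⁻¹, ?_, fun e => invol_ne_one (congrArg Subtype.val (conj_eq_one_iff.1 e)), ?_⟩
    · rw [show x * t * x⁻¹ * (x * t * x⁻¹) = x * (t * t) * x⁻¹ by group,
        show t * t = 1 from Subtype.ext invol_mul_self]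
      group
    · rw [← hp']
      refine CfsgLib.SmallRee.commute_conj x (Subtype.ext ?_)
      exact ((commute_invol_uni_iff hn).2 ⟨rfl, rfl⟩).eq
  · intro g hg hgQ x hx hc
    obtain ⟨t, u, v, h⟩ := hU' g hg
    obtain ⟨u', v', h'⟩ := mem_mid.1 hx
    have ht : t ≠ 0 := fun e => hgQ (mem_mid.2 ⟨u, v, by rw [h, e]⟩)
    obtain ⟨y, hy, hyt⟩ := hsplit t u v
    have hxy : Commute y (uni K m 0 u' v') := mid_comm K hy (uni_zero_mem_mid K u' v')
    have hc' : uni K m t u v * uni K m 0 u' v' = uni K m 0 u' v' * uni K m t u v := by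
      rw [← h, ← h']; exact congrArg Subtype.val hc.eq
    have e1 := conj_mid hn t u' v'
    have e2 : uni K m 0 u' v' = uni K m 0 u' (v' + t * u') := by
      rw [← e1]
      rw [hyt, mul_assoc, hxy.eq, ← mul_assoc, ← mul_assoc] at hc'
      have := mul_right_cancel hc'
      rw [this, mul_inv_cancel_right]
    have h0 : t * u' = 0 := left_eq_add.1 (uni_inj K m e2).2.2
    exact mem_top'.2 ⟨v', by rw [h', (mul_eq_zero.1 h0).resolve_left ht]⟩

end CfsgLib.ReeSq
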