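import Cfsg.Agent.Lib.ReeSquare.TypeC
import Cfsg.Agent.Lib.ReeSquare.UnipInst
import Cfsg.Agent.Lib.ReeSquare.Pair
import Cfsg.Agent.Lib.ReeDeg.Main
import Cfsg.Agent.Lib.SmallRee.ToriInst

/-!
# The square of a semisimple class of a small Ree group covers the non-identity elements
-/

set_option autoImplicit false
set_option linter.style.haveILetI false

noncomputable section

namespace CfsgLib.ReeSq

open Cfsg.Lie Cfsg CfsgLib.Characters CfsgLib.ChevStr CfsgLib.Twisted CfsgLib.SmallRee Subgroup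

section Abstract

universe u v

variable {G : Type u} [Group G] [Fintype G] {F : Type v} [Field F] [Fintype F] [CharP F 3] {q a r : ℕ}

/-- The covering, from the abstract data. -/
theorem square_covers (D : ToriData G q a r) (X : UnipData D.U q) (hdeg : DegBound G q)
    (h5 : 5 ≤ Fintype.card F)
    (e : ↥(centralizer ({D.t} : Set G)) ≃* Multiplicative (ZMod 2) × Matrix.ProjectiveSpecialLinearGroup (Fin 2) F)
    {x : G} (hx2 : 2 < orderOf x) (hx3 : ¬ 3 ∣ orderOf x) {g : G} (hg : g ≠ 1) :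
    ∃ u v : G, g = (u * x * u⁻¹) * (v * x * v⁻¹) := by
  rcases cent_semisimple D hx2 hx3 with ⟨k, hk, -⟩ | ⟨k, ⟨hc, hnd⟩, hC⟩ | h
  · refine prod_conj_transfer (k := 1) (l := k) ?_
    simp only [one_mul, inv_one, mul_one]
    have h2 : 2 < orderOf (k * x * k⁻¹) := by rwa [SmallRee.orderOf_conj]
    have h3 : ¬ 3 ∣ orderOf (k * x * k⁻¹) := by rwa [SmallRee.orderOf_conj]
    obtain ⟨hreal, hpair⟩ := pair_in_centralizer D h5 e (D.H_comm D.t_mem_H hk) h2 h3
    refine type_split D X hdeg hk (fun h1 => ?_) hreal hpair hg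
    have := Nat.le_of_dvd Nat.two_pos (orderOf_dvd_of_pow_eq_one ((pow_two _).trans h1))
    omega
  · refine prod_conj_transfer (k := 1) (l := k) ?_
    simp only [one_mul, inv_one, mul_one]
    have h2 : 2 < orderOf (k * x * k⁻¹) := by rwa [SmallRee.orderOf_conj]
    have h3 : ¬ 3 ∣ orderOf (k * x * k⁻¹) := by rwa [SmallRee.orderOf_conj]
    obtain ⟨hreal, hpair⟩ := pair_in_centralizer D h5 e hc h2 h3
    refine type_quad D X hdeg (by rw [card_cent_conj, hC]) (fun l hl => hnd ?_) hreal hpair hg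
    have hd : orderOf x ∣ q ^ 3 * (q - 1) := by
      rw [← D.card_NU, ← SmallRee.orderOf_conj k x, ← SmallRee.orderOf_conj l,
        ← Subgroup.orderOf_mk _ hl]
      exact orderOf_dvd_natCard _
    exact ((D.coprime_three hx3).pow_left 3).symm.dvd_of_dvd_mul_left hd
  · exact type_big D X hdeg (fun e1 => by rw [e1, orderOf_one] at hx2; omega) h hg

end Abstract

variable {K : Type*} [Field K] [Fintype K]

theorem twistedG2_square (m : ℕ) (hm : 1 ≤ m) (hK : Fintype.card K = 3 ^ (2 * m + 1))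
    (x : twistedG2 K (3 ^ m)) (hx2 : 2 < orderOf x) (hx3 : ¬ 3 ∣ orderOf x)
    {g : twistedG2 K (3 ^ m)} (hg : g ≠ 1) :
    ∃ u v : twistedG2 K (3 ^ m), g = (u * x * u⁻¹) * (v * x * v⁻¹) := by
  classical
  haveI : Fact (Nat.Prime 3) := ⟨Nat.prime_three⟩
  obtain ⟨_, hn⟩ := CfsgLib.Twisted.setupG2 K hK
  haveI : Finite ↥(twistedG2 K (3 ^ m)) := Finite.of_injective (fun g => (g : GL chevG2.Idx K)) Subtype.val_injective
  haveI := Fintype.ofFinite ↥(twistedG2 K (3 ^ m))
  obtain ⟨D⟩ := exists_toriData (K := K) hm hK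
  -- the layers of `U`
  obtain ⟨X₀⟩ := exists_unipData (K := K) (m := m) hn
  obtain ⟨P₀, hP₀⟩ := exists_sylow_eq (K := K) (m := m) hn
  obtain ⟨P₁, hP₁⟩ := D.U_sylow
  obtain ⟨k, hk⟩ := MulAction.exists_smul_eq ↥(twistedG2 K (3 ^ m)) P₀ P₁
  have hU : D.U = (Uin (K := K) (m := m)).map (MulAut.conj k).toMonoidHom := by
    rw [← hP₁, ← hk, Sylow.coe_subgroup_smul, hP₀]
    rfl
  have X : UnipData D.U (3 ^ (2 * m + 1)) := by
    rw [hU, ← hK]; exact X₀.map k
  -- the degrees
  have hdeg : DegBound ↥(twistedG2 K (3 ^ m)) (3 ^ (2 * m + 1)) := by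
    intro χ hχ
    obtain ⟨n, ρ, hρ, hρχ⟩ := χ.2
    have hd : charDegree (χ : ↥(twistedG2 K (3 ^ m)) → ℂ) = n := by
      have h := CfsgLib.Chars17.cast_irrDegree χ
      rw [← hρχ, Representation.char_one, Module.finrank_fintype_fun_eq_card, Fintype.card_fin] at h
      rw [← hρχ]
      exact_mod_cast h
    rcases Nat.lt_or_ge n 2 with hlt | hge
    · exfalso
      have hpos := CfsgLib.Chars17.irrDegree_pos χ
      obtain ⟨f, hf⟩ := CfsgLib.LinearTwist.exists_hom_of_charDegree_one (irr_isCharacter χ) (by omega)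
      refine hχ (Subtype.ext (funext fun y => ?_))
      have hy : y ∈ f.ker := by
        refine Abelianization.commutator_subset_ker f ?_
        rw [D.perfect]; exact mem_top y
      rw [hf, principalIrr_apply]
      simp only
      rw [MonoidHom.mem_ker.1 hy, Units.val_one]
    · have h := CfsgLib.ReeDeg.degree_gt (K := K) hn ρ hm (by simpa using hge)
      rw [Module.finrank_fintype_fun_eq_card, Fintype.card_fin, hK] at h
      rw [hd, pow_two, ← Nat.mul_sub_one]
      exact h
  -- the centraliser of the involution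
  set t₀ : ↥(twistedG2 K (3 ^ m)) := ⟨invol K m, (Subgroup.mem_inf.1 (invol_mem_H1 hn)).2⟩ with ht₀
  obtain ⟨⟨e₀⟩, -⟩ := exists_centralizer_equiv hn t₀ rfl
  obtain ⟨l, hl⟩ := D.isConj_invol (u := t₀) (Subtype.ext invol_mul_self)
    (fun e => invol_ne_one (congrArg Subtype.val e))
  have hC : (centralizer ({D.t} : Set ↥(twistedG2 K (3 ^ m)))).map (MulAut.conj l).toMonoidHom =
      centralizer ({t₀} : Set ↥(twistedG2 K (3 ^ m))) := by rw [centralizer_conj_map, hl]
  let e : ↥(centralizer ({D.t} : Set ↥(twistedG2 K (3 ^ m)))) ≃*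
      Multiplicative (ZMod 2) × Matrix.ProjectiveSpecialLinearGroup (Fin 2) K :=
    ((Subgroup.equivMapOfInjective _ (MulAut.conj l).toMonoidHom (MulAut.conj l).injective).trans
      (MulEquiv.subgroupCongr hC)).trans e₀
  have h5 : 5 ≤ Fintype.card K := by
    rw [hK]; exact le_trans (by norm_num) (Nat.pow_le_pow_right (by norm_num) (show 3 ≤ 2 * m + 1 by omega))
  exact square_covers D X hdeg h5 e hx2 hx3 hg

end CfsgLib.ReeSq
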