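import Mathlib

/-!
# Arithmetic of the exceptional characters of the large tori
-/

set_option autoImplicit false

namespace CfsgLib.ReeSq

/-- The numerical conditions satisfied by the exceptional family of a large torus. -/
structure ArithData (q r c c' s s' e : ℕ) (δ ε c₀ v a : ℤ) : Prop where
  hq : 27 ≤ q
  hr : r * r = 3 * q
  hq243 : q = 27 ∨ 243 ≤ q
  hodd : Odd q
  hδ : δ = 1 ∨ δ = -1
  hε : ε = 1 ∨ ε = -1
  hc : (c : ℤ) = q + 1 + δ * r
  hc' : (c' : ℤ) = q + 1 - δ * r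
  hs : c = 6 * s + 1
  hs' : c' = 6 * s' + 1
  hcop : Nat.Coprime c' ((q - 1) / 2)
  hc₀ : (s : ℤ) * c₀ ^ 2 - 2 * ε * c₀ ≤ 4
  hv : (s : ℤ) * v ^ 2 ≤ 5
  hn : (q - 1) / 2 ∣ e
  hc'e : (c' : ℤ) ∣ (e : ℤ) - v
  hce : (c : ℤ) ∣ (e : ℤ) - c₀ - 6 * ε
  hqe : (q : ℤ) ^ 2 ∣ (e : ℤ) - a
  ha : (s : ℤ) * a ^ 2 ≤ (q : ℤ) ^ 3
  hmin : q ^ 2 - q + 1 ≤ e

variable {q r c c' s s' e : ℕ} {δ ε c₀ v a : ℤ}

theorem ArithData.q27 (A : ArithData q r c c' s s' e δ ε c₀ v a) (h : q = 27) :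
    (c = 37 ∧ s = 6 ∧ 3731 ≤ e) ∨ (c = 19 ∧ s = 3 ∧ 2566 ≤ e) := by
  subst h
  have hr : r = 9 := Nat.mul_self_inj.1 (by rw [A.hr])
  subst hr
  have hc := A.hc; have hc' := A.hc'; have hs := A.hs; have hs' := A.hs'
  have hmin : 703 ≤ e := A.hmin
  have hn : 13 ∣ e := A.hn
  have h0 := A.hc₀; have hv := A.hv; have ha := A.ha
  have hce := A.hce; have hc'e := A.hc'e; have hqe := A.hqe
  norm_num at ha hqe
  rcases A.hδ with rfl | rfl
  · norm_num at hc hc'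
    obtain rfl : c = 37 := by omega
    obtain rfl : c' = 19 := by omega
    obtain rfl : s = 6 := by omega
    have hv0 : v = 0 := by
      norm_num at hv
      have hv2 : v ^ 2 = 0 := le_antisymm (by omega) (sq_nonneg v)
      exact pow_eq_zero_iff two_ne_zero |>.1 hv2
    subst hv0
    refine Or.inl ⟨rfl, rfl, ?_⟩
    norm_num at h0 hce hc'e
    have h01 : -1 ≤ c₀ ∧ c₀ ≤ 1 := by rcases A.hε with rfl | rfl <;> constructor <;> nlinarith
    by_contra hlt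
    rcases A.hε with rfl | rfl <;> obtain ⟨h1, h2⟩ := h01 <;> interval_cases c₀ <;> norm_num at h0 <;> omega
  · norm_num at hc hc'
    obtain rfl : c = 19 := by omega
    obtain rfl : c' = 37 := by omega
    obtain rfl : s = 3 := by omega
    refine Or.inr ⟨rfl, rfl, ?_⟩
    norm_num at h0 hce hc'e ha
    have hv1 : -1 ≤ v ∧ v ≤ 1 := by norm_num at hv; constructor <;> nlinarith
    have h01 : -1 ≤ c₀ ∧ c₀ ≤ 1 := by rcases A.hε with rfl | rfl <;> constructor <;> nlinarith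
    have ha1 : -81 ≤ a ∧ a ≤ 81 := by constructor <;> nlinarith
    by_contra hlt
    obtain ⟨hv1, hv2⟩ := hv1
    rcases A.hε with rfl | rfl <;> obtain ⟨h1, h2⟩ := h01 <;> interval_cases c₀ <;> interval_cases v <;>
      norm_num at h0 <;> omega

theorem ArithData.big (A : ArithData q r c c' s s' e δ ε c₀ v a) (h : 243 ≤ q) :
    c₀ = 0 ∧ 3 * (c * c') ≤ e ∧ 9 * c ≤ 10 * q + 9 ∧ c ≤ 7 * s := by
  have hr := A.hr
  have hr27 : 27 ≤ r := by nlinarith
  have hr9 : 9 * r ≤ q := by nlinarith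
  have hc := A.hc; have hc' := A.hc'; have hs := A.hs
  have hrz : (r : ℤ) * r = 3 * q := by exact_mod_cast hr
  have hs36 : 36 ≤ s := by rcases A.hδ with rfl | rfl <;> omega
  have h0 : c₀ = 0 := by
    have h0 := A.hc₀
    by_contra hne
    have h1 : 1 ≤ c₀ ^ 2 := by
      rcases lt_or_gt_of_ne hne with h1 | h1 <;> nlinarith
    rcases A.hε with rfl | rfl <;> nlinarith [sq_nonneg (c₀ - 1), sq_nonneg (c₀ + 1)]
  have hv0 : v = 0 := by
    have hv := A.hv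
    by_contra hne
    have h1 : 1 ≤ v ^ 2 := by
      rcases lt_or_gt_of_ne hne with h1 | h1 <;> nlinarith
    nlinarith
  refine ⟨h0, ?_, by rcases A.hδ with rfl | rfl <;> omega, by omega⟩
  have hce := A.hce; have hc'e := A.hc'e
  rw [h0, sub_zero] at hce
  rw [hv0, sub_zero, Int.natCast_dvd_natCast] at hc'e
  obtain ⟨j, hj⟩ := A.hcop.mul_dvd_of_dvd_of_dvd hc'e A.hn
  have hodd : 2 * ((q - 1) / 2) = q - 1 := by
    obtain ⟨i, hi⟩ := A.hodd
    omega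
  have hjz : 2 * (e : ℤ) = (j : ℤ) * (c' * (q - 1)) := by
    have h2 : 2 * e = j * (c' * (2 * ((q - 1) / 2))) := by rw [hj]; ring
    rw [hodd] at h2
    have h3 : ((2 * e : ℕ) : ℤ) = ((j * (c' * (q - 1)) : ℕ) : ℤ) := congrArg _ h2
    rw [Nat.cast_mul, Nat.cast_mul, Nat.cast_mul, Nat.cast_sub (by omega)] at h3
    exact_mod_cast h3
  have hj7 : 7 ≤ j := by
    by_contra hlt
    push Not at hlt
    set w := (j : ℤ) * (δ * r + 3) + 6 * ε with hw
    have hdvd : (c : ℤ) ∣ 2 * w := by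
      obtain ⟨y, hy⟩ := hce
      have hδ2 : δ * δ = 1 := by rcases A.hδ with rfl | rfl <;> rfl
      refine ⟨(j : ℤ) * (c - 2 - 3 * δ * r + 6) - 2 * y, ?_⟩
      have e1 : (q : ℤ) = c - 1 - δ * r := by linarith
      have e2 : (c' : ℤ) = c - 2 * δ * r := by linarith
      rw [e1, e2] at hjz
      rw [e1] at hrz
      linear_combination (-2 : ℤ) * hy + (1 : ℤ) * hjz + (2 * (j : ℤ)) * hrz + (2 * (j : ℤ) * r * r) * hδ2
    have hw' : (c : ℤ) ∣ w := by
      refine IsCoprime.dvd_of_dvd_mul_left ?_ hdvd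
      rw [Int.isCoprime_iff_gcd_eq_one]
      show Nat.gcd c 2 = 1
      rw [Nat.gcd_comm]
      refine (Nat.prime_two.coprime_iff_not_dvd).2 ?_
      omega
    have hjz' : (j : ℤ) ≤ 6 := by exact_mod_cast Nat.lt_succ_iff.1 hlt
    have hjpos : 1 ≤ (j : ℤ) := by
      rcases Nat.eq_zero_or_pos j with rfl | h1
      · have := A.hmin
        rw [hj, Nat.mul_zero] at this
        omega
      · exact_mod_cast h1
    have hcz : (c : ℤ) ≥ q + 1 - r := by rcases A.hδ with rfl | rfl <;> omega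
    have hbig : 6 * (r : ℤ) + 24 < q + 1 - r := by
      have : (27 : ℤ) ≤ r := by exact_mod_cast hr27
      nlinarith
    have hwb : |w| < c ∧ w ≠ 0 := by
      have hr' : (27 : ℤ) ≤ r := by exact_mod_cast hr27
      rw [hw, abs_lt]
      rcases A.hδ with rfl | rfl <;> rcases A.hε with rfl | rfl <;>
        refine ⟨⟨?_, ?_⟩, ?_⟩ <;> nlinarith
    exact hwb.2 (Int.eq_zero_of_abs_lt_dvd hw' hwb.1)
  have h3c : 3 * c ≤ 7 * ((q - 1) / 2) := by
    have : 27 * r ≤ 3 * q := by omega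
    rcases A.hδ with rfl | rfl <;> omega
  calc 3 * (c * c') = c' * (3 * c) := by ring
    _ ≤ c' * (7 * ((q - 1) / 2)) := Nat.mul_le_mul_left _ h3c
    _ = c' * ((q - 1) / 2) * 7 := by ring
    _ ≤ c' * ((q - 1) / 2) * j := Nat.mul_le_mul_left _ hj7
    _ = e := hj.symm

/-- The final inequality. -/
theorem ArithData.final (A : ArithData q r c c' s s' e δ ε c₀ v a) {M : ℝ} (hM0 : 0 ≤ M)
    (hM : M = (s : ℝ) * (c₀ : ℝ) ^ 2 - 2 * (ε : ℝ) * c₀ + 6 * s - 5) :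
    (q : ℝ) ^ 3 * (16 / ((q : ℝ) ^ 2 - q + 1) ^ 2 + M ^ 2 / ((s : ℝ) * (e : ℝ) ^ 2)) + 2 / (q : ℝ) < 1 := by
  rcases A.hq243 with h | h
  · rcases A.q27 h with ⟨-, hs, he⟩ | ⟨-, hs, he⟩
    · have hM1 : M ≤ 35 := by
        have h0 : ((s : ℤ) : ℝ) * (c₀ : ℝ) ^ 2 - 2 * (ε : ℝ) * c₀ ≤ 4 := by exact_mod_cast A.hc₀
        rw [hM, hs]; rw [hs] at h0; norm_num at h0 ⊢; linarith
      have h1 : M ^ 2 / ((s : ℝ) * (e : ℝ) ^ 2) ≤ 35 ^ 2 / (6 * 3731 ^ 2) := by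
        rw [hs]
        have h3 : (3731 : ℝ) ≤ e := by exact_mod_cast he
        exact div_le_div₀ (by positivity) (pow_le_pow_left₀ hM0 hM1 2) (by norm_num)
          (mul_le_mul (by norm_num) (pow_le_pow_left₀ (by norm_num) h3 2) (by norm_num) (by norm_num))
      subst h
      norm_num at h1 ⊢
      linarith
    · have hM1 : M ≤ 17 := by
        have h0 : ((s : ℤ) : ℝ) * (c₀ : ℝ) ^ 2 - 2 * (ε : ℝ) * c₀ ≤ 4 := by exact_mod_cast A.hc₀
        rw [hM, hs]; rw [hs] at h0; norm_num at h0 ⊢; linarith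
      have h1 : M ^ 2 / ((s : ℝ) * (e : ℝ) ^ 2) ≤ 17 ^ 2 / (3 * 2566 ^ 2) := by
        rw [hs]
        have h3 : (2566 : ℝ) ≤ e := by exact_mod_cast he
        exact div_le_div₀ (by positivity) (pow_le_pow_left₀ hM0 hM1 2) (by norm_num)
          (mul_le_mul (by norm_num) (pow_le_pow_left₀ (by norm_num) h3 2) (by norm_num) (by norm_num))
      subst h
      norm_num at h1 ⊢
      linarith
  · obtain ⟨h0, he, hc9, hc7⟩ := A.big h
    have hcc : (c : ℝ) * c' = (q : ℝ) ^ 2 - q + 1 := by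
      have hr : (r : ℝ) * r = 3 * q := by exact_mod_cast A.hr
      have e1 : (c : ℝ) = q + 1 + (δ : ℝ) * r := by exact_mod_cast A.hc
      have e2 : (c' : ℝ) = q + 1 - (δ : ℝ) * r := by exact_mod_cast A.hc'
      have hδ2 : (δ : ℝ) * δ = 1 := by rcases A.hδ with rfl | rfl <;> norm_num
      rw [e1, e2]
      linear_combination -(r : ℝ) * r * hδ2 - hr
    set D := (q : ℝ) ^ 2 - q + 1 with hD
    have hq : (243 : ℝ) ≤ q := by exact_mod_cast h
    have hDpos : 0 < D := by nlinarith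
    have he' : 3 * D ≤ e := by rw [← hcc]; exact_mod_cast he
    have hc7' : (c : ℝ) ≤ 7 * s := by exact_mod_cast hc7
    have hs0 : (0 : ℝ) < s := by
      have : 36 ≤ 7 * s := by
        have := A.hc; rcases A.hδ with rfl | rfl <;> nlinarith [A.hr]
      exact_mod_cast (show 0 < s by omega)
    have hMc : M ≤ c := by
      have : (c : ℝ) = 6 * s + 1 := by exact_mod_cast A.hs
      rw [hM, h0]; norm_num; linarith
    have h1 : M ^ 2 / ((s : ℝ) * (e : ℝ) ^ 2) ≤ 7 * c / (9 * D ^ 2) := by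
      rw [div_le_div_iff₀ (mul_pos hs0 (pow_pos (by linarith) 2)) (by positivity)]
      have e1 : M ^ 2 ≤ 7 * (c : ℝ) * s := by nlinarith
      have e2 : 9 * D ^ 2 ≤ (e : ℝ) ^ 2 := by nlinarith
      calc M ^ 2 * (9 * D ^ 2) ≤ 7 * c * s * (e : ℝ) ^ 2 :=
            mul_le_mul e1 e2 (by positivity) (by positivity)
        _ = _ := by ring
    have hc9' : 9 * (c : ℝ) ≤ 10 * q + 9 := by exact_mod_cast hc9
    refine lt_of_le_of_lt (add_le_add (mul_le_mul_of_nonneg_left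
      (add_le_add le_rfl h1) (by positivity)) le_rfl) ?_
    rw [show (q : ℝ) ^ 3 * (16 / D ^ 2 + 7 * c / (9 * D ^ 2)) + 2 / q =
      ((q : ℝ) ^ 4 * (144 + 7 * c) + 18 * D ^ 2) / (9 * D ^ 2 * q) by field_simp; ring,
      div_lt_one (by positivity)]
    have e3 : (q : ℝ) ^ 2 * ((q : ℝ) - 4) ≤ ((q : ℝ) - 2) * ((q : ℝ) - 1) ^ 2 := by nlinarith
    have e4 : ((q : ℝ) * (q - 1)) ^ 2 ≤ D ^ 2 :=
      pow_le_pow_left₀ (by nlinarith) (by rw [hD]; nlinarith) 2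
    have e5 : (q : ℝ) ^ 4 * (81 * (q - 4)) ≤ 81 * ((q : ℝ) - 2) * D ^ 2 := by
      calc (q : ℝ) ^ 4 * (81 * (q - 4)) = 81 * (q : ℝ) ^ 2 * ((q : ℝ) ^ 2 * (q - 4)) := by ring
        _ ≤ 81 * (q : ℝ) ^ 2 * (((q : ℝ) - 2) * ((q : ℝ) - 1) ^ 2) :=
            mul_le_mul_of_nonneg_left e3 (by positivity)
        _ = 81 * ((q : ℝ) - 2) * ((q : ℝ) * (q - 1)) ^ 2 := by ring
        _ ≤ _ := mul_le_mul_of_nonneg_left e4 (by linarith)
    have e6 : (q : ℝ) ^ 4 * (9 * (144 + 7 * c)) < (q : ℝ) ^ 4 * (81 * (q - 4)) :=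
      mul_lt_mul_of_pos_left (by linarith) (by positivity)
    nlinarith

end CfsgLib.ReeSq
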