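import Cfsg.Agent.Lib.ReeSquare.Criterion
import Cfsg.Agent.Lib.ReeSquare.Borel
import Cfsg.Agent.Lib.ReeSquare.Classes

/-!
# Squares of the classes of the elements of the two small tori
-/

set_option autoImplicit false
set_option linter.style.haveILetI false

noncomputable section

namespace CfsgLib.ReeSq

open Cfsg CfsgLib.Characters CfsgLib.SmallRee Subgroup
open scoped ComplexConjugate

universe u

variable {G : Type u} [Group G]

theorem prod_conj_transfer {x g : G} {k l : G}
    (h : ∃ u v : G, k * g * k⁻¹ = (u * (l * x * l⁻¹) * u⁻¹) * (v * (l * x * l⁻¹) * v⁻¹)) :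
    ∃ u v : G, g = (u * x * u⁻¹) * (v * x * v⁻¹) := by
  obtain ⟨u, v, h⟩ := h
  refine ⟨k⁻¹ * u * l, k⁻¹ * v * l, ?_⟩
  calc g = k⁻¹ * (k * g * k⁻¹) * k := by group
    _ = _ := by rw [h]; group

variable [Fintype G] {q a r : ℕ} (D : ToriData G q a r)

/-- The hypothesis on the degrees. -/
def DegBound (G : Type u) [Group G] (q : ℕ) : Prop :=
  ∀ χ : IrrCharacter G, χ ≠ principalIrr G → q ^ 2 - q + 1 ≤ charDegree (χ : G → ℂ)

omit [Fintype G] in
theorem DegBound.real (h : DegBound G q) {χ : IrrCharacter G} (hχ : χ ≠ principalIrr G) :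
    ((q : ℝ) ^ 2 - q + 1) ≤ (charDegree (χ : G → ℂ) : ℝ) := by
  have h1 : ((q ^ 2 - q + 1 : ℕ) : ℝ) ≤ (charDegree (χ : G → ℂ) : ℝ) := Nat.cast_le.2 (h χ hχ)
  rw [Nat.cast_add, Nat.cast_sub (Nat.le_self_pow two_ne_zero q)] at h1
  push_cast at h1
  exact h1

omit [Fintype G] in
theorem one_apply_norm (g : G) : ‖(principalIrr G : G → ℂ) g‖ = 1 := by simp

open scoped Classical in
theorem sum_erase_norm_sq (x : G) :
    ∑ χ ∈ Finset.univ.erase (principalIrr G), ‖(χ : G → ℂ) x‖ ^ 2 =
      (Nat.card (centralizer ({x} : Set G)) : ℝ) - 1 := by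
  rw [← column_norm_sq x, ← Finset.add_sum_erase _ _ (Finset.mem_univ (principalIrr G)), one_apply_norm]
  ring

/-- Type A: elements of the split torus. -/
theorem type_split (X : UnipData D.U q) (hdeg : DegBound G q) {x : G} (hx : x ∈ D.H) (hx2 : x * x ≠ 1)
    (hreal : IsConj x x⁻¹)
    (hpair : ∀ g : G, g ≠ 1 → (g = D.t ∨ (Commute D.t g ∧ g ^ 3 = 1)) →
      ∃ u v : G, g = (u * x * u⁻¹) * (v * x * v⁻¹))
    {g : G} (hg : g ≠ 1) : ∃ u v : G, g = (u * x * u⁻¹) * (v * x * v⁻¹) := by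
  classical
  obtain ⟨-, h⟩ := g_cases D X hg
  rcases h with ⟨k, hk⟩ | ⟨k, hk⟩ | h
  · refine prod_conj_transfer (k := k) (l := 1) ?_
    simp only [one_mul, inv_one, mul_one]
    exact hpair _ (SmallRee.conj_ne_one k hg) hk
  · refine prod_conj_transfer (k := k) (l := 1) ?_
    simp only [one_mul, inv_one, mul_one]
    obtain ⟨c, hc⟩ := D.conj_to_H (X.Q_le (X.Z_le hk)) hx hx2
    obtain ⟨d, hd⟩ := isConj_iff.1 hreal
    refine ⟨c⁻¹, d, ?_⟩
    have e : c⁻¹ * x * c⁻¹⁻¹ = k * g * k⁻¹ * x := by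
      calc c⁻¹ * x * c⁻¹⁻¹ = c⁻¹ * (c * (k * g * k⁻¹ * x) * c⁻¹) * c⁻¹⁻¹ := by rw [hc]
        _ = k * g * k⁻¹ * x := by group
    rw [e, hd, mul_inv_cancel_right]
  refine exists_of_rest_lt ?_
  have hC : (Nat.card (centralizer ({g} : Set G)) : ℝ) ≤ (q : ℝ) ^ 2 := by exact_mod_cast h
  have hq : (27 : ℝ) ≤ q := by exact_mod_cast D.hq
  have hD : (0 : ℝ) < (q : ℝ) ^ 2 - q + 1 := by nlinarith
  refine lt_of_le_of_lt (sum_div_le (N := (q : ℝ) - 2) _ (by positivity) hD
    (fun χ hχ => hdeg.real (Finset.ne_of_mem_erase hχ)) hC ?_) ?_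
  · rw [sum_erase_norm_sq, D.centralizer_torus hx hx2, D.card_H,
      Nat.cast_sub (by have := D.hq; omega)]
    push_cast; linarith
  · rw [div_lt_one hD]; nlinarith

/-- Type B: elements of the torus of order `q + 1`. -/
theorem type_quad (X : UnipData D.U q) (hdeg : DegBound G q) {x : G}
    (hC : Nat.card (centralizer ({x} : Set G)) = q + 1)
    (hoff : ∀ k : G, k * x * k⁻¹ ∉ normalizer (D.U : Set G)) (hreal : IsConj x x⁻¹)
    (hpair : ∀ g : G, g ≠ 1 → (g = D.t ∨ (Commute D.t g ∧ g ^ 3 = 1)) →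
      ∃ u v : G, g = (u * x * u⁻¹) * (v * x * v⁻¹))
    {g : G} (hg : g ≠ 1) : ∃ u v : G, g = (u * x * u⁻¹) * (v * x * v⁻¹) := by
  classical
  have hq27 := D.hq
  have hq : (27 : ℝ) ≤ q := by exact_mod_cast hq27
  have hD : (0 : ℝ) < (q : ℝ) ^ 2 - q + 1 := by nlinarith
  have hStx : (St D : G → ℂ) x = -1 := St_off D hoff
  have hsplit : ∀ {M : Type} [AddCommMonoid M] (f : IrrCharacter G → M),
      ∑ χ, f χ = f (principalIrr G) + (f (St D) +
        ∑ χ ∈ (Finset.univ.erase (principalIrr G)).erase (St D), f χ) := by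
    intro M _ f
    rw [Finset.add_sum_erase _ _ (Finset.mem_erase.2 ⟨St_ne D, Finset.mem_univ _⟩),
      Finset.add_sum_erase _ _ (Finset.mem_univ _)]
  obtain ⟨-, h⟩ := g_cases D X hg
  rcases h with ⟨k, hk⟩ | ⟨k, hk⟩ | h
  · refine prod_conj_transfer (k := k) (l := 1) ?_
    simp only [one_mul, inv_one, mul_one]
    exact hpair _ (SmallRee.conj_ne_one k hg) hk
  · -- central elements
    refine prod_conj_transfer (k := k) (l := 1) ?_
    simp only [one_mul, inv_one, mul_one]
    set z := k * g * k⁻¹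
    have hz1 : z ≠ 1 := SmallRee.conj_ne_one k hg
    refine exists_prod_conj fun hS => ?_
    have hxr : ∀ χ : IrrCharacter G, conj ((χ : G → ℂ) x) = (χ : G → ℂ) x := fun χ => by
      rw [← irr_apply_inv, ← classFunction_eq_of_isConj (irr_isClassFunction χ) hreal]
    have hx1 : ¬ IsConj x 1 := fun e => hoff 1 (by
      rw [isConj_one_left.1 e]; simp [one_mem])
    have hxz : ¬ IsConj x z := fun e => by
      obtain ⟨c, hc⟩ := isConj_iff.1 e
      exact hoff c (hc ▸ le_normalizer (X.Q_le (X.Z_le hk)))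
    haveI : Fintype X.Z := Fintype.ofFinite _
    -- the sums over `Z`
    have hconst : ∀ (χ : IrrCharacter G) (w : X.Z), (w : G) ≠ 1 → (χ : G → ℂ) w = (χ : G → ℂ) z :=
      fun χ w hw => (classFunction_eq_of_isConj (irr_isClassFunction χ) (X.Z_conj z hk hz1 w w.2 hw)).symm
    have hsum : ∑ w : X.Z, ∑ χ : IrrCharacter G, sqTerm x (w : G) χ = ((q + 1 : ℕ) : ℂ) := by
      rw [Finset.sum_eq_single (1 : X.Z)]
      · rw [← hC]
        have h := column_orth (G := G) x x
        rw [if_pos (IsConj.refl x)] at h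
        rw [← h]
        refine Finset.sum_congr rfl fun χ _ => ?_
        rw [sqTerm, OneMemClass.coe_one, CfsgLib.Chars17.conj_irr_one, hxr,
          mul_div_cancel_right₀ _ (irr_one_ne_zero χ)]
      · intro w _ hw
        have hw' : (w : G) ≠ 1 := fun e => hw (Subtype.ext e)
        rw [← hS]
        refine Finset.sum_congr rfl fun χ _ => ?_
        rw [sqTerm, sqTerm, hconst χ w hw']
      · simp
    choose m hm using fun χ : IrrCharacter G => CfsgLib.ClassCount.exists_mult χ X.Z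
    have hterm : ∀ χ : IrrCharacter G, ∑ w : X.Z, sqTerm x (w : G) χ =
        ((‖(χ : G → ℂ) x‖ ^ 2 * q * m χ / charDegree (χ : G → ℂ) : ℝ) : ℂ) := by
      intro χ
      simp only [sqTerm, ← Finset.sum_div, ← Finset.mul_sum]
      rw [show ∑ w : X.Z, conj ((χ : G → ℂ) (w : G)) = (Nat.card X.Z : ℂ) * m χ by
        rw [← hm]; exact Finset.sum_congr rfl fun w _ => (irr_apply_inv χ _).symm, X.card_Z,
        ← CfsgLib.Chars17.cast_irrDegree]
      nth_rw 2 [← hxr χ]
      rw [Complex.mul_conj']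
      push_cast
      ring
    rw [Finset.sum_comm, hsplit] at hsum
    have e1 : ∑ w : X.Z, sqTerm x (w : G) (principalIrr G) = (q : ℂ) := by
      simp [sqTerm, ← Nat.card_eq_fintype_card, X.card_Z]
    have e2 : ∑ w : X.Z, sqTerm x (w : G) (St D) = 1 := by
      rw [Finset.sum_eq_single (1 : X.Z)]
      · rw [sqTerm, hStx, OneMemClass.coe_one, CfsgLib.Chars17.conj_irr_one,
          mul_div_cancel_right₀ _ (irr_one_ne_zero _)]
        ring
      · intro w _ hw
        rw [sqTerm, St_U D (X.Q_le (X.Z_le w.2)) (fun e => hw (Subtype.ext e))]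
        simp
      · simp
    rw [e1, e2, Finset.sum_congr rfl (fun χ _ => hterm χ), ← Complex.ofReal_sum] at hsum
    have hrest : ∑ χ ∈ (Finset.univ.erase (principalIrr G)).erase (St D),
        ‖(χ : G → ℂ) x‖ ^ 2 * q * m χ / charDegree (χ : G → ℂ) = 0 := by
      have h' := congrArg Complex.re hsum
      simp only [Complex.add_re, Complex.natCast_re, Complex.ofReal_re, Complex.one_re,
        Nat.cast_add, Nat.cast_one] at h'
      linarith
    have hzero := (Finset.sum_eq_zero_iff_of_nonneg fun χ _ => by positivity).1 hrest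
    -- every other character is orthogonal
    have hall : ∀ χ ∈ (Finset.univ.erase (principalIrr G)).erase (St D),
        (χ : G → ℂ) x * conj ((χ : G → ℂ) 1) + ((q : ℂ) - 1) * ((χ : G → ℂ) x * conj ((χ : G → ℂ) z)) = 0 := by
      intro χ hχ
      have h0 := hzero χ hχ
      have hd : (charDegree (χ : G → ℂ) : ℝ) ≠ 0 := Nat.cast_ne_zero.2 (CfsgLib.Chars17.irrDegree_pos χ).ne'
      rw [div_eq_zero_iff, or_iff_left hd, mul_eq_zero, mul_eq_zero, pow_eq_zero_iff two_ne_zero,
        norm_eq_zero, Nat.cast_eq_zero, Nat.cast_eq_zero, or_iff_left (by omega : ¬ q = 0)] at h0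
      rcases h0 with h0 | h0
      · rw [h0]; ring
      have hsumZ : ∑ w : X.Z, conj ((χ : G → ℂ) (w : G)) = 0 := by
        have hm' := hm χ
        simp only [irr_apply_inv] at hm'
        rw [hm', h0, Nat.cast_zero, mul_zero]
      rw [← Finset.add_sum_erase _ _ (Finset.mem_univ (1 : X.Z)),
        Finset.sum_congr rfl (g := fun _ => conj ((χ : G → ℂ) z)) (fun w hw => by
          rw [hconst χ w fun e => Finset.ne_of_mem_erase hw (Subtype.ext e)]),
        Finset.sum_const, Finset.card_erase_of_mem (Finset.mem_univ _), Finset.card_univ,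
        ← Nat.card_eq_fintype_card, X.card_Z, nsmul_eq_mul, OneMemClass.coe_one,
        Nat.cast_sub (by omega : 1 ≤ q), Nat.cast_one] at hsumZ
      linear_combination (χ : G → ℂ) x * hsumZ
    have o1 := column_orth (G := G) x 1
    have oz := column_orth (G := G) x z
    rw [if_neg hx1, hsplit] at o1
    rw [if_neg hxz, hsplit] at oz
    have hs := Finset.sum_eq_zero hall
    rw [Finset.sum_add_distrib, ← Finset.mul_sum] at hs
    simp only [principalIrr_apply, hStx, St_one, map_one, map_pow, map_natCast, mul_one] at o1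
    simp only [principalIrr_apply, hStx, St_U D (X.Q_le (X.Z_le hk)) hz1, map_one, map_zero, mul_zero,
      mul_one] at oz
    have : ((q : ℂ) ^ 3) = (q : ℂ) := by linear_combination hs - o1 - ((q : ℂ) - 1) * oz
    have : q ^ 3 = q := by exact_mod_cast this
    have := Nat.pow_lt_pow_right (show 1 < q by omega) (show 1 < 3 by norm_num)
    simp only [pow_one] at this
    omega
  -- small centralisers
  refine exists_of_rest_lt ?_
  rw [← Finset.add_sum_erase _ _ (Finset.mem_erase.2 ⟨St_ne D, Finset.mem_univ (St D)⟩)]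
  have hC' : (Nat.card (centralizer ({g} : Set G)) : ℝ) ≤ (q : ℝ) ^ 2 := by exact_mod_cast h
  have hrest := sum_div_le (x := x) (N := (q : ℝ) - 1) ((Finset.univ.erase (principalIrr G)).erase (St D))
    (Nat.cast_nonneg q) hD
    (fun χ hχ => hdeg.real (Finset.ne_of_mem_erase (Finset.mem_of_mem_erase hχ))) hC' (by
      have h := sum_erase_norm_sq x
      rw [← Finset.add_sum_erase _ _ (Finset.mem_erase.2 ⟨St_ne D, Finset.mem_univ (St D)⟩), hStx, hC] at h
      simp at h
      linarith)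
  have hSt : ‖(St D : G → ℂ) x‖ ^ 2 * ‖(St D : G → ℂ) g‖ / (charDegree (St D : G → ℂ) : ℝ) ≤
      1 / (q : ℝ) ^ 2 := by
    rw [hStx, norm_neg, norm_one, one_pow, one_mul, St_degree, Nat.cast_pow, div_le_div_iff₀ (by positivity) (by positivity)]
    have := norm_le_of_sq (Nat.cast_nonneg q) hC' (St D)
    nlinarith [sq_nonneg (q : ℝ)]
  have hlt : 1 / (q : ℝ) ^ 2 + ((q : ℝ) - 1) * q / ((q : ℝ) ^ 2 - q + 1) < 1 := by
    rw [div_add_div _ _ (by positivity) hD.ne', div_lt_one (by positivity)]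
    nlinarith
  linarith

end CfsgLib.ReeSq
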