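import Cfsg.Agent.Lib.ReeSquare.Family
import Cfsg.Agent.Lib.ReeSquare.TypeAB
import Cfsg.Agent.Lib.ReeSquare.TorusArith
import Cfsg.Agent.Lib.Characters.Clifford

/-!
# Squares of the classes of the elements of the large tori
-/

set_option autoImplicit false
set_option linter.style.haveILetI false

noncomputable section

namespace CfsgLib.ReeSq

open Cfsg CfsgLib.Characters CfsgLib.SmallRee Subgroup
open scoped ComplexConjugate

universe u

variable {G : Type u} [Group G] [Fintype G] {q a r : ℕ}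

/-- Characters are congruent to their degree modulo `q²` on the central part of `U`. -/
theorem Z_cong {U : Subgroup G} (X : UnipData U q) (χ : IrrCharacter G) {z : G} (hz : z ∈ X.Z) (hz1 : z ≠ 1) :
    ∃ R : ℕ, (χ : G → ℂ) 1 - (χ : G → ℂ) z = (q : ℂ) ^ 2 * R := by
  classical
  haveI : Fintype X.Q := Fintype.ofFinite _
  haveI : IsMulCommutative X.Q := ⟨⟨fun x y => Subtype.ext (X.Q_comm x x.2 y y.2).eq⟩⟩
  set w : X.Q := ⟨z, X.Z_le hz⟩
  have hw : w ≠ 1 := fun e => hz1 (congrArg Subtype.val e)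
  obtain ⟨η, hη⟩ : ∃ η : IrrCharacter X.Q, (η : X.Q → ℂ) w ≠ (η : X.Q → ℂ) 1 := by
    by_contra h
    push Not at h
    exact hw (CfsgLib.Chars17.eq_one_of_forall_irr h)
  obtain ⟨f, hf⟩ := CfsgLib.LinearTwist.exists_hom_of_charDegree_one (irr_isCharacter η) (by
    have h1 := CfsgLib.Chars17.cast_irrDegree η
    rw [CfsgLib.CharIto.degree_one_of_comm η.2] at h1
    exact_mod_cast h1)
  have hw1 : (η : X.Q → ℂ) w ≠ 1 := fun e => hη (by rw [e, CfsgLib.CharIto.degree_one_of_comm η.2])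
  obtain ⟨R, hR⟩ := classInner_char_nat (CfsgLib.Clifford.isCharacter_subtype (irr_isCharacter χ) X.Q)
    (irr_isCharacter η)
  refine ⟨R, ?_⟩
  set G1 : X.Q → ℂ := fun p => (χ : G → ℂ) (p : G) - if p = 1 then (χ : G → ℂ) 1 - (χ : G → ℂ) z else 0
  have hG1 : ∀ p, G1 (p * w) = G1 p := by
    intro p
    simp only [G1, Subgroup.coe_mul]
    by_cases hp : (p : G) ∈ X.Z
    · have hval : ∀ s : X.Q, (s : G) ∈ X.Z → G1 s = (χ : G → ℂ) z := by
        intro s hs
        by_cases h1 : s = 1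
        · simp [G1, h1]
        · simp only [G1, if_neg h1, sub_zero]
          exact (classFunction_eq_of_isConj (irr_isClassFunction χ)
            (X.Z_conj z hz hz1 _ hs fun e => h1 (Subtype.ext e))).symm
      have h := (hval (p * w) (mul_mem hp hz)).trans (hval p hp).symm
      simpa only [G1, Subgroup.coe_mul] using h
    · have h1 : p ≠ 1 := fun e => hp (by rw [e]; exact one_mem _)
      have h2 : p * w ≠ 1 := fun e => hp (by
        rw [eq_inv_of_mul_eq_one_left e]; exact inv_mem hz)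
      rw [if_neg h1, if_neg h2, sub_zero, sub_zero]
      exact (classFunction_eq_of_isConj (irr_isClassFunction χ) (X.coset_conj p p.2 hp z hz)).symm
  have h0 : ∑ p : X.Q, G1 p * conj ((η : X.Q → ℂ) p) = 0 := by
    have h : (∑ p : X.Q, G1 p * conj ((η : X.Q → ℂ) p)) =
        conj ((η : X.Q → ℂ) w) * ∑ p : X.Q, G1 p * conj ((η : X.Q → ℂ) p) := by
      rw [Finset.mul_sum]
      conv_lhs => rw [← Equiv.sum_comp (Equiv.mulRight w)]
      refine Finset.sum_congr rfl fun p _ => ?_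
      rw [Equiv.coe_mulRight, hG1, hf]
      simp only [map_mul, Units.val_mul]
      ring
    have h' : (1 - conj ((η : X.Q → ℂ) w)) * ∑ p : X.Q, G1 p * conj ((η : X.Q → ℂ) p) = 0 := by
      linear_combination h
    refine (mul_eq_zero.1 h').resolve_left fun e => hw1 ?_
    have := congrArg conj (sub_eq_zero.1 e)
    rwa [map_one, Complex.conj_conj, eq_comm] at this
  have hsum : ∑ p : X.Q, (χ : G → ℂ) (p : G) * conj ((η : X.Q → ℂ) p) =
      (χ : G → ℂ) 1 - (χ : G → ℂ) z := by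
    have e : ∀ p : X.Q, (χ : G → ℂ) (p : G) * conj ((η : X.Q → ℂ) p) = G1 p * conj ((η : X.Q → ℂ) p) +
        if p = 1 then (χ : G → ℂ) 1 - (χ : G → ℂ) z else 0 := by
      intro p
      by_cases hp : p = 1
      · simp [G1, hp, CfsgLib.CharIto.degree_one_of_comm η.2]
      · simp [G1, hp]
    rw [Finset.sum_congr rfl fun p _ => e p, Finset.sum_add_distrib, h0, zero_add,
      Finset.sum_ite_eq' Finset.univ (1 : X.Q), if_pos (Finset.mem_univ _)]
  rw [classInner, hsum, X.card_Q, Nat.cast_pow, inv_mul_eq_iff_eq_mul₀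
    (pow_ne_zero _ (Nat.cast_ne_zero.2 (by
      intro e
      exact Nat.card_pos.ne' (X.card_Z.trans e))))] at hR
  exact hR

variable (D : ToriData G q a r)

omit [Fintype G] in
theorem orderOf_dvd_of_mem_T {T : Subgroup G} {c : ℕ} (hT : BigTorus T c) {y : G} (hy : y ∈ T) :
    orderOf y ∣ c := by
  rw [← hT.card_T, ← Subgroup.orderOf_mk y hy]; exact orderOf_dvd_natCard _

omit [Fintype G] in
/-- Elements of the Borel subgroup avoid the large tori. -/
theorem eq_one_of_mem_both {T : Subgroup G} {c : ℕ} (hT : BigTorus T c) (hc : c ∣ q ^ 2 - q + 1)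
    {y k : G} (hy : k * y * k⁻¹ ∈ T) (hB : y ∈ normalizer (D.U : Set G)) : y = 1 := by
  have h1 : orderOf y ∣ q ^ 2 - q + 1 := by
    rw [← SmallRee.orderOf_conj k]; exact (orderOf_dvd_of_mem_T hT hy).trans hc
  have h2 : orderOf y ∣ q ^ 3 * (q - 1) := by
    rw [← D.card_NU, ← Subgroup.orderOf_mk y hB]; exact orderOf_dvd_natCard _
  have hcop : Nat.Coprime (q ^ 3 * (q - 1)) (q ^ 2 - q + 1) :=
    (D.coprime_q_c.pow_left 3).mul_left D.coprime_q_sub_c
  exact orderOf_eq_one_iff.1 (Nat.eq_one_of_dvd_coprimes hcop h2 h1)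

theorem torusFamily_exists {T : Subgroup G} {c s : ℕ} (hT : BigTorus T c) (hs : c = 6 * s + 1) (hs2 : 2 ≤ s) :
    Nonempty (TorusFamily T 6 s) := by
  refine exists_torusFamily T (fun g hg k hk h => by_contra fun hk1 => hg (ti_of_cent hT.cent hk hk1 h))
    (fun k hk hk1 => (hT.cent k hk hk1).le) ?_ (by norm_num) hs2 (hT.card_T.trans hs)
    (by rw [hT.card_N, hT.card_T])
  intro x hx y hy
  haveI := hT.cyclic
  exact congrArg Subtype.val (IsCyclic.commGroup.mul_comm (⟨x, hx⟩ : T) ⟨y, hy⟩)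

/-- The properties of a family used for the bounds. -/
theorem family_basic {T : Subgroup G} {c s : ℕ} (hT : BigTorus T c) (hs : c = 6 * s + 1)
    (hc : c ∣ q ^ 2 - q + 1) (F : TorusFamily T 6 s) {x : G} (hx : x ∈ T) (hx1 : x ≠ 1) :
    principalIrr G ∉ F.E ∧ St D ∉ F.E ∧
    (∀ e ∈ F.E, ∀ f ∈ F.E, ∀ b ∈ normalizer (D.U : Set G), (e : G → ℂ) b = (f : G → ℂ) b) ∧
    ∑ χ ∈ (((Finset.univ \ F.E).erase (principalIrr G)).erase (St D)), (F.c χ) ^ 2 =
      4 - s * F.c₀ ^ 2 + 2 * F.ε * F.c₀ := by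
  classical
  have hoff : ∀ y ∈ T, y ≠ 1 → ∀ k : G, k * y * k⁻¹ ∉ normalizer (D.U : Set G) := fun y hy hy1 k hB =>
    SmallRee.conj_ne_one k hy1
      (eq_one_of_mem_both D hT hc (k := k⁻¹) (by simpa [mul_assoc] using hy) hB)
  have h1 : principalIrr G ∉ F.E := fun h => by
    obtain ⟨y, -, z, -, -, -, hne⟩ := F.nonconst _ h
    exact hne (by simp)
  have h2 : St D ∉ F.E := fun h => by
    obtain ⟨y, hy, z, hz, hy1, hz1, hne⟩ := F.nonconst _ h
    exact hne (by rw [St_off D (hoff y hy hy1), St_off D (hoff z hz hz1)])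
  refine ⟨h1, h2, fun e he f hf b hb => F.agree e he f hf b fun g hg => by_contra fun hne => ?_, ?_⟩
  · have hb1 : b = 1 := eq_one_of_mem_both D hT hc (k := g⁻¹) (by rwa [inv_inv]) hb
    exact hne (by rw [hb1]; group)
  have hcol := column_orth (G := G) x x
  rw [if_pos (IsConj.refl x), hT.cent x hx hx1, hT.card_T, ← Finset.sum_sdiff (Finset.subset_univ F.E),
    F.sum_sq x hx hx1,
    ← Finset.add_sum_erase _ _ (show principalIrr G ∈ Finset.univ \ F.E from
      Finset.mem_sdiff.2 ⟨Finset.mem_univ _, h1⟩),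
    ← Finset.add_sum_erase _ _ (show St D ∈ (Finset.univ \ F.E).erase (principalIrr G) from
      Finset.mem_erase.2 ⟨St_ne D, Finset.mem_sdiff.2 ⟨Finset.mem_univ _, h2⟩⟩),
    St_off D (hoff x hx hx1), hs,
    Finset.sum_congr rfl (g := fun χ => (((F.c χ) ^ 2 : ℤ) : ℂ)) (fun χ hχ => by
      rw [F.val χ (Finset.mem_sdiff.1 (Finset.mem_of_mem_erase (Finset.mem_of_mem_erase hχ))).2 x hx hx1,
        map_intCast]
      push_cast; ring), ← Int.cast_sum] at hcol
  simp only [principalIrr_apply, map_one, mul_one, map_neg, neg_mul, one_mul, neg_neg] at hcol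
  have h : (((∑ χ ∈ (((Finset.univ \ F.E).erase (principalIrr G)).erase (St D)), (F.c χ) ^ 2) : ℤ) : ℂ) =
      ((4 - s * F.c₀ ^ 2 + 2 * F.ε * F.c₀ : ℤ) : ℂ) := by
    push_cast at hcol ⊢
    linear_combination hcol
  exact_mod_cast h

include D in
/-- Members of one family are constant on the other torus. -/
theorem family_other {T T' : Subgroup G} {c c' s s' : ℕ} (hT : BigTorus T c) (hT' : BigTorus T' c')
    (hs' : c' = 6 * s' + 1) (hcop : Nat.Coprime c c') (hc : c ∣ q ^ 2 - q + 1) (hc' : c' ∣ q ^ 2 - q + 1)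
    (F : TorusFamily T 6 s) (F' : TorusFamily T' 6 s') (hs2 : 2 ≤ s) (hs2' : 2 ≤ s') :
    ∃ v : ℤ, (s : ℤ) * v ^ 2 ≤ 5 ∧ ∀ e ∈ F.E, (c' : ℤ) ∣ (charDegree (e : G → ℂ) : ℤ) - v := by
  classical
  have hagree : ∀ e ∈ F.E, ∀ f ∈ F.E, ∀ y ∈ T', (e : G → ℂ) y = (f : G → ℂ) y :=
    fun e he f hf y hy => F.agree e he f hf y fun g hg => by
      have h1 : orderOf (g⁻¹ * y * g) ∣ c := orderOf_dvd_of_mem_T hT hg
      have h2 : orderOf (g⁻¹ * y * g) ∣ c' := by
        rw [show g⁻¹ * y * g = g⁻¹ * y * g⁻¹⁻¹ by group, SmallRee.orderOf_conj]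
        exact orderOf_dvd_of_mem_T hT' hy
      exact orderOf_eq_one_iff.1 (Nat.eq_one_of_dvd_coprimes hcop h1 h2)
  obtain ⟨e₀, he₀, f₀, hf₀, hne⟩ : ∃ e₀ ∈ F.E, ∃ f₀ ∈ F.E, e₀ ≠ f₀ :=
    Finset.one_lt_card.1 (by rw [F.card_E]; omega)
  have hdisj : ∀ e ∈ F.E, e ∉ F'.E := by
    intro e he he'
    obtain ⟨f, hf, hfe⟩ : ∃ f ∈ F.E, f ≠ e := by
      rcases eq_or_ne e₀ e with rfl | h
      · exact ⟨f₀, hf₀, hne.symm⟩
      · exact ⟨e₀, he₀, h⟩
    by_cases hf' : f ∈ F'.E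
    · obtain ⟨y, hy, -, hyne⟩ := F'.separated e he' f hf' hfe.symm
      exact hyne (hagree e he f hf y hy)
    · obtain ⟨y, hy, z, hz, hy1, hz1, hyz⟩ := F'.nonconst e he'
      exact hyz (by rw [hagree e he f hf y hy, hagree e he f hf z hz, F'.val f hf' y hy hy1, F'.val f hf' z hz hz1])
  obtain ⟨y, hy, hy1⟩ : ∃ y ∈ T', y ≠ 1 := by
    by_contra h
    push Not at h
    have h' := hT'.card_T
    rw [(Subgroup.eq_bot_iff_forall T').2 h, Subgroup.card_bot] at h'
    omega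
  obtain ⟨h1', h2', -, hsum'⟩ := family_basic D hT' hs' hc' F' hy hy1
  refine ⟨F'.c e₀, ?_, fun e he => ?_⟩
  · have hsub : F.E ⊆ ((Finset.univ \ F'.E).erase (principalIrr G)).erase (St D) := by
      intro e he
      have hconst : ∀ χ : IrrCharacter G, χ ∈ F.E → ∀ w ∈ T', (χ : G → ℂ) w = (e₀ : G → ℂ) w :=
        fun χ hχ w hw => hagree χ hχ e₀ he₀ w hw
      refine Finset.mem_erase.2 ⟨fun h => ?_, Finset.mem_erase.2 ⟨fun h => ?_,
        Finset.mem_sdiff.2 ⟨Finset.mem_univ _, hdisj e he⟩⟩⟩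
      · obtain ⟨z, hz, w, hw, hz1, hw1, hzw⟩ := F.nonconst e he
        subst h
        refine hzw ?_
        rw [St_off D (fun k hB => ?_), St_off D (fun k hB => ?_)]
        · exact SmallRee.conj_ne_one k hw1 (eq_one_of_mem_both D hT hc (k := k⁻¹) (by simpa [mul_assoc] using hw) hB)
        · exact SmallRee.conj_ne_one k hz1 (eq_one_of_mem_both D hT hc (k := k⁻¹) (by simpa [mul_assoc] using hz) hB)
      · obtain ⟨z, -, w, -, -, -, hzw⟩ := F.nonconst e he
        subst h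
        exact hzw (by simp)
    have heq : ∀ e ∈ F.E, F'.c e = F'.c e₀ := fun e he => by
      have h : (F'.c e : ℂ) = (F'.c e₀ : ℂ) := by
        rw [← F'.val e (hdisj e he) y hy hy1, ← F'.val e₀ (hdisj e₀ he₀) y hy hy1, hagree e he e₀ he₀ y hy]
      exact_mod_cast h
    have h := Finset.sum_le_sum_of_subset_of_nonneg hsub (f := fun χ => (F'.c χ) ^ 2) fun _ _ _ => sq_nonneg _
    rw [hsum', Finset.sum_congr rfl (fun e he => by rw [heq e he]), Finset.sum_const, F.card_E, nsmul_eq_mul] at h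
    have h2 : (2 : ℤ) ≤ (s' : ℤ) := by exact_mod_cast hs2'
    rcases F'.sign with hε | hε <;> rw [hε] at h <;>
      nlinarith [sq_nonneg (F'.c₀ - 1), sq_nonneg (F'.c₀ + 1), mul_le_mul_of_nonneg_right h2 (sq_nonneg F'.c₀)]
  · have h := F'.cong_out e (hdisj e he)
    have he' : F'.c e = F'.c e₀ := by
      have h : (F'.c e : ℂ) = (F'.c e₀ : ℂ) := by
        rw [← F'.val e (hdisj e he) y hy hy1, ← F'.val e₀ (hdisj e₀ he₀) y hy hy1, hagree e he e₀ he₀ y hy]
      exact_mod_cast h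
    rw [he'] at h
    rw [hs']
    push_cast at h ⊢
    exact h

end CfsgLib.ReeSq
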