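import Cfsg.Agent.Lib.ReeSquare.TorusCase

/-!
# Elements of the large tori
-/

set_option autoImplicit false
set_option linter.style.haveILetI false

noncomputable section

namespace CfsgLib.ReeSq

open Cfsg CfsgLib.Characters CfsgLib.SmallRee Subgroup
open scoped ComplexConjugate

universe u

variable {G : Type u} [Group G] [Fintype G] {q a r : ℕ} (D : ToriData G q a r)

/-- Type C: elements of the large tori. -/
theorem type_big (X : UnipData D.U q) (hdeg : DegBound G q) {x : G} (hx1 : x ≠ 1)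
    (hx : ∀ p : ℕ, p.Prime → p ∣ orderOf x → p ∣ q ^ 2 - q + 1)
    {g : G} (hg : g ≠ 1) : ∃ u v : G, g = (u * x * u⁻¹) * (v * x * v⁻¹) := by
  classical
  obtain ⟨T, T', δ, c, c', hδ, hT, hT', hprod, hcz, hcz', ⟨k₀, hk₀⟩, -⟩ := cent_big D hx1 hx
  refine prod_conj_transfer (k := 1) (l := k₀) ?_
  simp only [one_mul, inv_one, mul_one]
  generalize hy : k₀ * x * k₀⁻¹ = y
  rw [hy] at hk₀
  have hy1 : y ≠ 1 := by rw [← hy]; exact SmallRee.conj_ne_one k₀ hx1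
  clear hy
  obtain ⟨hr3, hr9⟩ := r_bounds D
  have hq27 := D.hq
  have hq : (27 : ℝ) ≤ q := by exact_mod_cast hq27
  have hDR : (0 : ℝ) < (q : ℝ) ^ 2 - q + 1 := by nlinarith
  refine exists_of_rest_lt ?_
  by_cases htor : ∃ l : G, l * g * l⁻¹ ∈ T
  · -- toral elements
    obtain ⟨l, hl⟩ := htor
    have hCg : (Nat.card (centralizer ({g} : Set G)) : ℝ) ≤ (r : ℝ) ^ 2 := by
      rw [← card_cent_conj l g, hT.cent _ hl (SmallRee.conj_ne_one l hg), hT.card_T]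
      have h : c ≤ r ^ 2 := by
        rw [pow_two, D.hr]
        rcases hδ with rfl | rfl <;> omega
      exact_mod_cast h
    refine lt_of_le_of_lt (sum_div_le (N := (c : ℝ)) _ (Nat.cast_nonneg r) hDR
      (fun χ hχ => hdeg.real (Finset.ne_of_mem_erase hχ)) hCg ?_) ?_
    · rw [sum_erase_norm_sq, hT.cent y hk₀ hy1, hT.card_T]
      linarith
    · rw [div_lt_one hDR]
      have h1 : (c : ℝ) ≤ q + 1 + r := by
        have : c ≤ q + 1 + r := by rcases hδ with rfl | rfl <;> omega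
        exact_mod_cast this
      have h2 : 3 * (r : ℝ) ≤ q := by exact_mod_cast hr3
      nlinarith [Nat.cast_nonneg (α := ℝ) r, mul_le_mul h1 (le_refl (r : ℝ)) (Nat.cast_nonneg r) (by positivity)]
  -- the two families
  have hmod : q % 2 = 1 ∧ q % 3 = 0 ∧ r % 2 = 1 ∧ r % 3 = 0 := by
    have h2 : q % 2 = 1 := Nat.odd_iff.1 D.q_odd
    have h3 := D.three_dvd_q
    have hr2 : (r * r) % 2 = 1 := by rw [D.hr]; omega
    have hr3 : 3 ∣ r := (Nat.prime_three.dvd_mul.1 (D.hr ▸ dvd_mul_right 3 q)).elim id id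
    refine ⟨h2, by omega, ?_, by omega⟩
    rw [Nat.mul_mod] at hr2
    rcases Nat.mod_two_eq_zero_or_one r with h | h <;> rw [h] at hr2 <;> simp_all
  obtain ⟨h2q, h3q, h2r, h3r⟩ := hmod
  obtain ⟨s, hs⟩ : ∃ s, c = 6 * s + 1 := ⟨c / 6, by rcases hδ with rfl | rfl <;> omega⟩
  obtain ⟨s', hs'⟩ : ∃ s', c' = 6 * s' + 1 := ⟨c' / 6, by rcases hδ with rfl | rfl <;> omega⟩
  have hs3 : 3 ≤ s ∧ 3 ≤ s' := by rcases hδ with rfl | rfl <;> constructor <;> omega
  have hcd : c ∣ q ^ 2 - q + 1 := hprod ▸ dvd_mul_right _ _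
  have hcd' : c' ∣ q ^ 2 - q + 1 := hprod ▸ dvd_mul_left _ _
  have hcop : Nat.Coprime c c' := by
    have hrq : r ≤ q + 1 := by omega
    rcases hδ with rfl | rfl
    · obtain rfl : c = q + 1 + r := by omega
      obtain rfl : c' = q + 1 - r := by omega
      exact (D.coprime_plus_minus (by rw [mul_comm]; exact hprod)).symm
    · obtain rfl : c = q + 1 - r := by omega
      obtain rfl : c' = q + 1 + r := by omega
      exact D.coprime_plus_minus hprod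
  obtain ⟨F⟩ := torusFamily_exists hT hs (by omega)
  obtain ⟨F'⟩ := torusFamily_exists hT' hs' (by omega)
  obtain ⟨h1E, hStE, hagree, hsum⟩ := family_basic D hT hs hcd F hk₀ hy1
  obtain ⟨v, hv, hve⟩ := family_other D hT hT' hs' hcop hcd hcd' F F' (by omega) (by omega)
  obtain ⟨e₀, he₀⟩ : ∃ e₀, e₀ ∈ F.E := Finset.card_pos.1 (by rw [F.card_E]; omega)
  set e := charDegree (e₀ : G → ℂ) with he
  have hE1 : ∀ χ ∈ F.E, charDegree (χ : G → ℂ) = e := by
    intro χ hχ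
    have h := hagree χ hχ e₀ he₀ 1 (one_mem _)
    rw [← CfsgLib.Chars17.cast_irrDegree, ← CfsgLib.Chars17.cast_irrDegree] at h
    exact_mod_cast h
  -- divisibility by `(q - 1) / 2`
  obtain ⟨hhodd, hhalf⟩ := D.half_odd
  have hn : (q - 1) / 2 ∣ e := by
    obtain ⟨h, hh, hH⟩ := D.H_gen
    have hK : Nat.card (zpowers (h ^ 2)) = (q - 1) / 2 := by
      rw [Nat.card_zpowers, orderOf_pow, hh, Nat.gcd_eq_right ⟨(q - 1) / 2, hhalf.symm⟩]
    haveI : Fintype (zpowers (h ^ 2)) := Fintype.ofFinite _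
    obtain ⟨m, hm⟩ := CfsgLib.ClassCount.exists_mult e₀ (zpowers (h ^ 2))
    rw [Finset.sum_eq_single (1 : zpowers (h ^ 2))] at hm
    · rw [OneMemClass.coe_one, inv_one, ← CfsgLib.Chars17.cast_irrDegree, hK] at hm
      exact ⟨m, by exact_mod_cast hm⟩
    · intro w _ hw
      have hwK : ((w : G))⁻¹ ∈ zpowers (h ^ 2) := inv_mem w.2
      have hw1 : (w : G)⁻¹ ≠ 1 := inv_ne_one.2 fun e => hw (Subtype.ext e)
      have hwH : ((w : G))⁻¹ ∈ D.H := (zpowers_le.2 (pow_mem (hH ▸ mem_zpowers h) 2)) hwK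
      refine vanish_on_H D (A := F.E) (by rw [F.card_E]; omega) hagree he₀ hwH
        (D.sq_ne_one_of_odd (Odd.of_dvd_nat hhodd ?_) hw1)
      rw [← hK, ← Subgroup.orderOf_mk _ hwK]
      exact orderOf_dvd_natCard _
    · simp
  -- the value on `Z`
  obtain ⟨z, hz, hz1⟩ : ∃ z ∈ X.Z, z ≠ 1 := by
    by_contra h
    push Not at h
    have h' := Subgroup.card_eq_one.2 ((Subgroup.eq_bot_iff_forall X.Z).2 h)
    have := X.card_Z.symm.trans h'
    omega
  obtain ⟨R, hR⟩ := Z_cong X e₀ hz hz1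
  set av : ℤ := (e : ℤ) - (q : ℤ) ^ 2 * R with hav
  have hva : (e₀ : G → ℂ) z = (av : ℂ) := by
    rw [← CfsgLib.Chars17.cast_irrDegree, ← he] at hR
    rw [hav]; push_cast; linear_combination -hR
  have hzU : z ∈ D.U := X.Q_le (X.Z_le hz)
  have ha : (s : ℤ) * av ^ 2 ≤ (q : ℤ) ^ 3 := by
    have h1 : ∑ χ ∈ F.E, ‖(χ : G → ℂ) z‖ ^ 2 ≤ (Nat.card (centralizer ({z} : Set G)) : ℝ) := by
      rw [← column_norm_sq z]
      exact Finset.sum_le_sum_of_subset_of_nonneg (Finset.subset_univ _) fun _ _ _ => sq_nonneg _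
    rw [Finset.sum_congr rfl (g := fun _ => (av : ℝ) ^ 2) (fun χ hχ => by
      rw [hagree χ hχ e₀ he₀ z (le_normalizer hzU), hva, Complex.norm_intCast, sq_abs]),
      Finset.sum_const, F.card_E, nsmul_eq_mul] at h1
    have h2 : (Nat.card (centralizer ({z} : Set G)) : ℝ) ≤ (q : ℝ) ^ 3 := by
      exact_mod_cast card_cent_le D X hzU hz1
    exact_mod_cast h1.trans h2
  -- the parameters
  obtain ⟨k, hk, hk3⟩ := D.exists_k
  have h243 : q = 27 ∨ 243 ≤ q := by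
    have h4 := D.h4a
    obtain ⟨i, hi⟩ := D.ha
    rcases (by omega : k = 3 ∨ k = 4 ∨ 5 ≤ k) with e3 | e4 | e5
    · exact Or.inl (by rw [hk, e3]; norm_num)
    · have : q = 81 := by rw [hk, e4]; norm_num
      omega
    · exact Or.inr (by rw [hk]; exact le_trans (by norm_num) (Nat.pow_le_pow_right (by norm_num) e5))
  have hsumR : (s : ℤ) * F.c₀ ^ 2 - 2 * F.ε * F.c₀ ≤ 4 := by
    have := hsum ▸ Finset.sum_nonneg fun χ (_ : χ ∈ (((Finset.univ \ F.E).erase (principalIrr G)).erase (St D))) =>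
      sq_nonneg (F.c χ)
    linarith
  have hR4 : (0 : ℤ) ≤ (s : ℤ) * F.c₀ ^ 2 - 2 * F.ε * F.c₀ := by
    have h2 : (2 : ℤ) ≤ (s : ℤ) := by exact_mod_cast (by omega : 2 ≤ s)
    rcases F.sign with hε | hε <;> rw [hε] <;>
      rcases Int.le_total 0 F.c₀ with h0 | h0 <;>
      nlinarith [mul_le_mul_of_nonneg_right h2 (sq_nonneg F.c₀), sq_nonneg (2 * F.c₀ - 1), sq_nonneg (2 * F.c₀ + 1)]
  have A : ArithData q r c c' s s' e δ F.ε F.c₀ v av :=
    { hq := hq27, hr := D.hr, hq243 := h243, hodd := D.q_odd, hδ := hδ, hε := F.sign,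
      hc := hcz, hc' := hcz', hs := hs, hs' := hs',
      hcop := (Nat.Coprime.coprime_dvd_left ⟨2, by omega⟩ D.coprime_q_sub_c).symm.coprime_dvd_left hcd',
      hc₀ := hsumR, hv := hv, hn := hn, hc'e := hve e₀ he₀,
      hce := by
        have h := F.cong_in e₀ he₀
        rw [hs]; push_cast at h ⊢; exact h
      hqe := ⟨R, by rw [hav]; ring⟩, ha := ha,
      hmin := hdeg e₀ fun h => h1E (h ▸ he₀) }
  -- the bound
  set M : ℝ := (s : ℝ) * (F.c₀ : ℝ) ^ 2 - 2 * (F.ε : ℝ) * F.c₀ + 6 * s - 5 with hM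
  have hEx : ∑ χ ∈ F.E, ‖(χ : G → ℂ) y‖ ^ 2 = M := by
    have h := F.sum_sq y hk₀ hy1
    simp only [Complex.mul_conj'] at h
    have h' : ((∑ χ ∈ F.E, ‖(χ : G → ℂ) y‖ ^ 2 : ℝ) : ℂ) = ((M : ℝ) : ℂ) := by
      rw [hM]; push_cast at h ⊢; rw [h]; ring
    exact_mod_cast h'
  have hM0 : 0 ≤ M := hEx ▸ Finset.sum_nonneg fun _ _ => sq_nonneg _
  have hfinal := A.final hM0 hM
  obtain ⟨hC3, -⟩ := g_cases D X hg
  have hC3' : (Nat.card (centralizer ({g} : Set G)) : ℝ) ≤ (q : ℝ) ^ 3 := by exact_mod_cast hC3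
  have hgagree : ∀ χ ∈ F.E, (χ : G → ℂ) g = (e₀ : G → ℂ) g := fun χ hχ =>
    F.agree χ hχ e₀ he₀ g fun l hl => absurd ⟨l⁻¹, by rwa [inv_inv]⟩ htor
  set O := ((Finset.univ \ F.E).erase (principalIrr G)).erase (St D) with hO
  have hsplit : (Finset.univ.erase (principalIrr G)) \ F.E = (Finset.univ \ F.E).erase (principalIrr G) := by
    ext χ; simp
  have hsubE : F.E ⊆ Finset.univ.erase (principalIrr G) := fun χ hχ =>
    Finset.mem_erase.2 ⟨fun h => h1E (h ▸ hχ), Finset.mem_univ _⟩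
  rw [← Finset.sum_sdiff hsubE, hsplit, ← Finset.add_sum_erase _ _
    (show St D ∈ (Finset.univ \ F.E).erase (principalIrr G) from
      Finset.mem_erase.2 ⟨St_ne D, Finset.mem_sdiff.2 ⟨Finset.mem_univ _, hStE⟩⟩)]
  have hStterm : ‖(St D : G → ℂ) y‖ ^ 2 * ‖(St D : G → ℂ) g‖ / (charDegree (St D : G → ℂ) : ℝ) ≤ 1 / (q : ℝ) := by
    rw [St_off D (fun l hB => SmallRee.conj_ne_one l hy1
      (eq_one_of_mem_both D hT hcd (k := l⁻¹) (by simpa [mul_assoc] using hk₀) hB)), norm_neg, norm_one,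
      one_pow, one_mul, St_degree, Nat.cast_pow]
    refine le_trans (div_le_div_of_nonneg_right (norm_le_of_sq (γ := (q : ℝ) ^ 2) (by positivity)
      (hC3'.trans ?_) _) (by positivity)) (le_of_eq ?_)
    · rw [← pow_mul]; exact pow_le_pow_right₀ (by linarith) (by norm_num)
    · field_simp
  set e' : ℝ := (e : ℝ)
  let w : IrrCharacter G → ℝ := fun χ =>
    if χ ∈ F.E then M / ((s : ℝ) * e') else ((F.c χ : ℝ)) ^ 2 / ((q : ℝ) ^ 2 - q + 1)
  have hdisj : Disjoint O F.E := Finset.disjoint_left.2 fun χ hχ =>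
    (Finset.mem_sdiff.1 (Finset.mem_of_mem_erase (Finset.mem_of_mem_erase hχ))).2
  have hOle : ∑ χ ∈ O, ‖(χ : G → ℂ) y‖ ^ 2 * ‖(χ : G → ℂ) g‖ / (charDegree (χ : G → ℂ) : ℝ) ≤
      ∑ χ ∈ O, w χ * ‖(χ : G → ℂ) g‖ := by
    refine Finset.sum_le_sum fun χ hχ => ?_
    have hχE := Finset.disjoint_left.1 hdisj hχ
    have hne : χ ≠ principalIrr G := (Finset.mem_erase.1 (Finset.mem_of_mem_erase hχ)).1
    rw [F.val χ hχE y hk₀ hy1, Complex.norm_intCast, sq_abs]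
    simp only [w, if_neg hχE]
    rw [div_mul_eq_mul_div]
    exact div_le_div_of_nonneg_left (by positivity) hDR (hdeg.real hne)
  have hs0 : (0 : ℝ) < s := by exact_mod_cast (by omega : 0 < s)
  have hEle : ∑ χ ∈ F.E, ‖(χ : G → ℂ) y‖ ^ 2 * ‖(χ : G → ℂ) g‖ / (charDegree (χ : G → ℂ) : ℝ) ≤
      ∑ χ ∈ F.E, w χ * ‖(χ : G → ℂ) g‖ := by
    rw [Finset.sum_congr rfl (g := fun χ : IrrCharacter G => ‖(χ : G → ℂ) y‖ ^ 2 * (‖(e₀ : G → ℂ) g‖ / e')) (fun χ hχ => by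
      rw [hgagree χ hχ, hE1 χ hχ, mul_div_assoc]), ← Finset.sum_mul, hEx,
      Finset.sum_congr rfl (g := fun _ => M / ((s : ℝ) * e') * ‖(e₀ : G → ℂ) g‖) (fun χ hχ => by
      simp only [w, if_pos hχ, hgagree χ hχ]), Finset.sum_const, F.card_E, nsmul_eq_mul]
    refine le_of_eq ?_
    field_simp
  have hW : ∑ χ ∈ O ∪ F.E, w χ ^ 2 ≤ 16 / ((q : ℝ) ^ 2 - q + 1) ^ 2 + M ^ 2 / ((s : ℝ) * e' ^ 2) := by
    rw [Finset.sum_union hdisj]
    refine add_le_add ?_ (le_of_eq ?_)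
    · rw [Finset.sum_congr rfl (g := fun χ : IrrCharacter G => (((F.c χ : ℝ)) ^ 2) ^ 2 / ((q : ℝ) ^ 2 - q + 1) ^ 2) (fun χ hχ => by
        simp only [w, if_neg (Finset.disjoint_left.1 hdisj hχ), div_pow]), ← Finset.sum_div]
      refine div_le_div_of_nonneg_right ?_ (by positivity)
      refine (Finset.sum_sq_le_sq_sum_of_nonneg fun χ _ => sq_nonneg ((F.c χ : ℝ))).trans ?_
      have h4 : ∑ χ ∈ O, ((F.c χ : ℝ)) ^ 2 ≤ 4 := by
        have h : ∑ χ ∈ O, (F.c χ) ^ 2 ≤ (4 : ℤ) := by rw [hO, hsum]; linarith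
        exact_mod_cast h
      exact (pow_le_pow_left₀ (Finset.sum_nonneg fun _ _ => sq_nonneg _) h4 2).trans (by norm_num)
    · rw [Finset.sum_congr rfl (g := fun _ => (M / ((s : ℝ) * e')) ^ 2) (fun χ hχ => by
        simp only [w, if_pos hχ]), Finset.sum_const, F.card_E, nsmul_eq_mul]
      field_simp
  have hkey := weighted_sum_le (O ∪ F.E) w g
  rw [Finset.sum_union hdisj] at hkey
  have hmul : (Nat.card (centralizer ({g} : Set G)) : ℝ) * ∑ χ ∈ O ∪ F.E, w χ ^ 2 ≤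
      (q : ℝ) ^ 3 * (16 / ((q : ℝ) ^ 2 - q + 1) ^ 2 + M ^ 2 / ((s : ℝ) * e' ^ 2)) :=
    mul_le_mul hC3' hW (Finset.sum_nonneg fun _ _ => sq_nonneg _) (by positivity)
  have hq2 : (2 : ℝ) / q = 2 * (1 / q) := by ring
  linarith

end CfsgLib.ReeSq
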