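import Cfsg.Agent.Lib.SmallRee.ToriResults

/-!
# Centralisers of the unipotent elements of a small Ree group
-/

set_option autoImplicit false
set_option linter.style.haveILetI false

namespace CfsgLib.ReeSq

open CfsgLib.SmallRee Subgroup

universe u

variable {G : Type u} [Group G]

/-- The layers `Z < Q < U` of a Sylow 3-subgroup of a small Ree group. -/
structure UnipData (U : Subgroup G) (q : ℕ) where
  Q : Subgroup G
  Z : Subgroup G
  Q_le : Q ≤ U
  Z_le : Z ≤ Q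
  card_Q : Nat.card Q = q ^ 2
  card_Z : Nat.card Z = q
  Q_comm : ∀ x ∈ Q, ∀ y ∈ Q, Commute x y
  Q_mem : ∀ x ∈ U, x ^ 3 = 1 → x ∈ Q
  Q_pow : ∀ x ∈ Q, x ^ 3 = 1
  Z_central : ∀ z ∈ Z, ∀ x ∈ U, Commute z x
  Z_conj : ∀ z ∈ Z, z ≠ 1 → ∀ z' ∈ Z, z' ≠ 1 → IsConj z z'
  Z_invol : ∀ z ∈ Z, z ≠ 1 → ∀ i : G, i * i = 1 → i ≠ 1 → ¬ Commute i z
  coset_conj : ∀ p ∈ Q, p ∉ Z → ∀ z ∈ Z, IsConj p (p * z)
  Q_invol : ∀ p ∈ Q, p ∉ Z → ∃ i : G, i * i = 1 ∧ i ≠ 1 ∧ Commute i p
  cent_Q : ∀ g ∈ U, g ∉ Q → ∀ x ∈ Q, Commute g x → x ∈ Z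

/-- Transport along an inner automorphism. -/
def UnipData.map {U : Subgroup G} {q : ℕ} (X : UnipData U q) (k : G) :
    UnipData (U.map (MulAut.conj k).toMonoidHom) q where
  Q := X.Q.map (MulAut.conj k).toMonoidHom
  Z := X.Z.map (MulAut.conj k).toMonoidHom
  Q_le := Subgroup.map_mono X.Q_le
  Z_le := Subgroup.map_mono X.Z_le
  card_Q := by rw [card_map_conj, X.card_Q]
  card_Z := by rw [card_map_conj, X.card_Z]
  Q_comm := by
    rintro _ ⟨x, hx, rfl⟩ _ ⟨y, hy, rfl⟩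
    exact (X.Q_comm x hx y hy).map _
  Q_mem := by
    rintro _ ⟨x, hx, rfl⟩ h
    rw [← map_pow] at h
    replace h := (MulEquiv.map_eq_one_iff (MulAut.conj k)).1 h
    exact ⟨x, X.Q_mem x hx h, rfl⟩
  Q_pow := by
    rintro _ ⟨x, hx, rfl⟩
    rw [← map_pow, X.Q_pow x hx, map_one]
  Z_central := by
    rintro _ ⟨x, hx, rfl⟩ _ ⟨y, hy, rfl⟩
    exact (X.Z_central x hx y hy).map _
  Z_conj := by
    rintro _ ⟨x, hx, rfl⟩ h _ ⟨y, hy, rfl⟩ h'
    exact (MulAut.conj k).toMonoidHom.map_isConj (X.Z_conj x hx (fun e => h (by rw [e, map_one])) y hy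
      (fun e => h' (by rw [e, map_one])))
  Z_invol := by
    rintro _ ⟨x, hx, rfl⟩ h i hi hi1 hc
    refine X.Z_invol x hx (fun e => h (by rw [e, map_one])) ((MulAut.conj k).symm i) (by rw [← map_mul, hi, map_one])
      (fun e => hi1 ((MulEquiv.map_eq_one_iff (MulAut.conj k).symm).1 e)) ?_
    have h2 := hc.map (MulAut.conj k).symm.toMonoidHom
    rw [MulEquiv.coe_toMonoidHom, MulEquiv.coe_toMonoidHom, MulEquiv.symm_apply_apply] at h2
    exact h2
  coset_conj := by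
    rintro _ ⟨x, hx, rfl⟩ h _ ⟨y, hy, rfl⟩
    rw [← map_mul]
    exact (MulAut.conj k).toMonoidHom.map_isConj (X.coset_conj x hx (fun e => h ⟨x, e, rfl⟩) y hy)
  Q_invol := by
    rintro _ ⟨x, hx, rfl⟩ h
    obtain ⟨i, hi, hi1, hc⟩ := X.Q_invol x hx (fun e => h ⟨x, e, rfl⟩)
    exact ⟨MulAut.conj k i, by rw [← map_mul, hi, map_one],
      fun e => hi1 ((MulEquiv.map_eq_one_iff _).1 e), hc.map _⟩
  cent_Q := by
    rintro _ ⟨x, hx, rfl⟩ h _ ⟨y, hy, rfl⟩ hc
    refine ⟨y, X.cent_Q x hx (fun e => h ⟨x, e, rfl⟩) y hy ?_, rfl⟩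
    exact (MulAut.conj k).injective (by rw [map_mul, map_mul]; exact hc.eq)

variable [Finite G] {q a r : ℕ} (D : ToriData G q a r)

include D

omit [Finite G] in
theorem cent_le_NU {u : G} (hu : u ∈ D.U) (hu1 : u ≠ 1) :
    centralizer ({u} : Set G) ≤ normalizer (D.U : Set G) := fun g hg =>
  D.U_ti u hu hu1 g (by rw [mem_centralizer_singleton_iff.1 hg, mul_inv_cancel_right]; exact hu)

theorem prime_of_dvd_cent {u : G} (hu : u ∈ D.U) (hu1 : u ≠ 1) {p : ℕ} (hp : p.Prime)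
    (h : p ∣ Nat.card (centralizer ({u} : Set G))) : p = 2 ∨ p = 3 := by
  by_contra hne
  rw [not_or] at hne
  haveI := Fact.mk hp
  obtain ⟨y, hy⟩ := exists_prime_orderOf_dvd_card' p h
  have hy' : orderOf (y : G) = p := by rw [Subgroup.orderOf_coe, hy]
  obtain ⟨j, -, hj⟩ := (Nat.dvd_prime_pow Nat.prime_three).1
    (show orderOf u ∣ 3 ^ 2 from orderOf_dvd_of_pow_eq_one (D.U_pow u hu))
  have hc : Commute (y : G) u := mem_centralizer_singleton_iff.1 y.2
  have hcop : Nat.Coprime p (3 ^ j) :=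
    Nat.Coprime.pow_right _ ((Nat.coprime_primes hp Nat.prime_three).2 hne.2)
  have ho : orderOf ((y : G) * u) = p * 3 ^ j := by
    rw [hc.orderOf_mul_eq_mul_orderOf_of_coprime (by rw [hy', hj]; exact hcop), hy', hj]
  have hj0 : j ≠ 0 := fun e => hu1 (orderOf_eq_one_iff.1 (by rw [hj, e, pow_zero]))
  have h3 : 3 ∣ orderOf ((y : G) * u) := by rw [ho]; exact dvd_mul_of_dvd_right (dvd_pow_self 3 hj0) p
  have hpd : p ∣ 18 := by
    have : orderOf ((y : G) * u) ∣ 18 := by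
      rcases D.orderOf_eq_three_div h3 with e | e | e <;> rw [e] <;> norm_num
    exact (dvd_mul_right p (3 ^ j)).trans (ho ▸ this)
  have := Nat.le_of_dvd (by norm_num) hpd
  have := hp.two_le
  interval_cases p <;> first | omega | exact absurd hp (by norm_num)

/-- The centraliser of a non-trivial element of `U` has order dividing `2 q³`. -/
theorem card_cent_dvd {u : G} (hu : u ∈ D.U) (hu1 : u ≠ 1) :
    Nat.card (centralizer ({u} : Set G)) ∣ 2 * q ^ 3 := by
  have h1 := Subgroup.card_dvd_of_le (cent_le_NU D hu hu1)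
  rw [D.card_NU] at h1
  obtain ⟨hodd, hhalf⟩ := D.half_odd
  set n := Nat.card (centralizer ({u} : Set G))
  have h2 : n ∣ (2 * q ^ 3) * ((q - 1) / 2) := by
    rw [show 2 * q ^ 3 * ((q - 1) / 2) = q ^ 3 * (2 * ((q - 1) / 2)) by ring, hhalf]; exact h1
  refine Nat.Coprime.dvd_of_dvd_mul_right ?_ h2
  refine Nat.coprime_of_dvd fun p hp hpn hpq => ?_
  rcases prime_of_dvd_cent D hu hu1 hp hpn with rfl | rfl
  · exact absurd hpq (Nat.two_dvd_ne_zero.2 (Nat.odd_iff.1 hodd))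
  · exact D.three_not_dvd_q_sub (hpq.trans ⟨2, by omega⟩)

/-- Without commuting involutions the centraliser lies in `U`. -/
theorem cent_le_U {u : G} (hu : u ∈ D.U) (hu1 : u ≠ 1)
    (h : ∀ i : G, i * i = 1 → i ≠ 1 → ¬ Commute i u) : centralizer ({u} : Set G) ≤ D.U := by
  haveI := Fact.mk Nat.prime_two
  obtain ⟨k, hk⟩ := D.h3
  have hodd : ¬ 2 ∣ Nat.card (centralizer ({u} : Set G)) := by
    intro h2
    obtain ⟨y, hy⟩ := exists_prime_orderOf_dvd_card' 2 h2
    have hy' : orderOf (y : G) = 2 := by rw [Subgroup.orderOf_coe, hy]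
    exact h y (by rw [← pow_two, ← hy']; exact pow_orderOf_eq_one _)
      (fun e => by rw [e, orderOf_one] at hy'; omega) (mem_centralizer_singleton_iff.1 y.2)
  intro g hg
  have hd : orderOf g ∣ 3 ^ (k * 3) := by
    have h1 : orderOf g ∣ Nat.card (centralizer ({u} : Set G)) := by
      rw [← Subgroup.orderOf_mk g hg]; exact orderOf_dvd_natCard _
    rw [pow_mul, ← hk]
    exact h1.trans (Nat.Coprime.dvd_of_dvd_mul_left ((Nat.prime_two.coprime_iff_not_dvd.2 hodd).symm)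
      (card_cent_dvd D hu hu1))
  obtain ⟨j, -, hj⟩ := (Nat.dvd_prime_pow Nat.prime_three).1 hd
  exact D.mem_U_of_mem_NU (cent_le_NU D hu hu1 hg) hj

/-- The centraliser of a non-trivial element of `U` has order at most `q³`. -/
theorem card_cent_le (X : UnipData D.U q) {u : G} (hu : u ∈ D.U) (hu1 : u ≠ 1) :
    Nat.card (centralizer ({u} : Set G)) ≤ q ^ 3 := by
  by_cases h : ∀ i : G, i * i = 1 → i ≠ 1 → ¬ Commute i u
  · rw [← D.card_U]; exact Subgroup.card_le_of_le (cent_le_U D hu hu1 h)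
  push Not at h
  obtain ⟨i, hi, hi1, hc⟩ := h
  obtain ⟨j, -, hj⟩ := (Nat.dvd_prime_pow Nat.prime_three).1
    (show orderOf u ∣ 3 ^ 2 from orderOf_dvd_of_pow_eq_one (D.U_pow u hu))
  have hd1 : Nat.card (centralizer ({u} : Set G)) ∣ 2 * q ^ 3 := card_cent_dvd D hu hu1
  -- a proper divisor
  rcases Nat.lt_or_ge (q ^ 3) (Nat.card (centralizer ({u} : Set G))) with hlt | hle
  swap
  · exact hle
  exfalso
  have hfull : Nat.card (centralizer ({u} : Set G)) = 2 * q ^ 3 := by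
    obtain ⟨d, hd⟩ := hd1
    rcases d with _ | _ | d
    · have := pow_pos (show 0 < q by have := D.hq; omega) 3; omega
    · omega
    · nlinarith [Nat.zero_le (Nat.card (centralizer ({u} : Set G)) * d)]
  -- a full centraliser contains a Sylow subgroup, so all of `U`
  haveI := Fact.mk Nat.prime_three
  obtain ⟨P, hP⟩ := D.U_sylow
  obtain ⟨kq, hkq⟩ := D.h3
  have hdvd : 3 ^ (kq * 3) ∣ Nat.card (centralizer ({u} : Set G)) := by
    rw [hfull, pow_mul, ← hkq]; exact dvd_mul_left _ _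
  obtain ⟨R, hR⟩ := Sylow.exists_subgroup_card_pow_prime 3 hdvd
  have hRU : R.map (centralizer ({u} : Set G)).subtype ≤ D.U := by
    rintro _ ⟨y, hy, rfl⟩
    have hyd : orderOf y ∣ 3 ^ (kq * 3) := by
      rw [← hR, ← Subgroup.orderOf_mk y hy]; exact orderOf_dvd_natCard _
    obtain ⟨l, -, hl⟩ := (Nat.dvd_prime_pow Nat.prime_three).1 hyd
    exact D.mem_U_of_mem_NU (cent_le_NU D hu hu1 y.2) ((Subgroup.orderOf_coe y).trans hl)
  have hcomm : ∀ y ∈ D.U, Commute y u := by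
    have he := eq_of_le_of_card_ge hRU (by
      rw [Subgroup.card_map_of_injective (centralizer ({u} : Set G)).subtype_injective, hR, D.card_U,
        pow_mul, ← hkq])
    intro y hy
    rw [← he] at hy
    obtain ⟨z, -, rfl⟩ := hy
    exact mem_centralizer_singleton_iff.1 z.2
  -- hence `u` is central
  have huQ : u ∈ X.Q := X.Q_mem u hu (D.cube_of_commute_invol hi hi1 hc hj)
  refine X.Z_invol u ?_ hu1 i hi hi1 hc
  obtain ⟨w, hw, hwQ⟩ : ∃ w ∈ D.U, w ∉ X.Q := by
    by_contra hno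
    push Not at hno
    have hcard := Subgroup.card_le_of_le (show D.U ≤ X.Q from hno)
    rw [D.card_U, X.card_Q] at hcard
    have := Nat.pow_lt_pow_right (show 1 < q by have := D.hq; omega) (show 2 < 3 by norm_num)
    omega
  exact X.cent_Q w hw hwQ u huQ (hcomm w hw)

/-- An element of order nine has a centraliser of order at most `q²`. -/
theorem card_cent_nine (X : UnipData D.U q) {u : G} (hu : u ∈ D.U) (h9 : orderOf u = 9) :
    Nat.card (centralizer ({u} : Set G)) ≤ q ^ 2 := by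
  have hu1 : u ≠ 1 := fun e => by rw [e, orderOf_one] at h9; omega
  have hno : ∀ i : G, i * i = 1 → i ≠ 1 → ¬ Commute i u := fun i hi hi1 hc => by
    have := orderOf_dvd_of_pow_eq_one (D.cube_of_commute_invol hi hi1 hc (k := 2) h9)
    rw [h9] at this
    omega
  set C := centralizer ({u} : Set G) with hC
  have hCU : C ≤ D.U := cent_le_U D hu hu1 hno
  have huQ : u ∉ X.Q := fun h => by
    have := orderOf_dvd_of_pow_eq_one (X.Q_pow u h)
    rw [h9] at this
    omega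
  have hinf : C ⊓ X.Q ≤ X.Z := fun x hx =>
    X.cent_Q u hu huQ x (mem_inf.1 hx).2 (mem_centralizer_singleton_iff.1 (mem_inf.1 hx).1).symm
  have h1 : (C ⊓ X.Q).relIndex C ≤ X.Q.relIndex D.U := by
    rw [inf_relIndex_left]
    exact relIndex_le_of_le_right hCU Subgroup.index_ne_zero_of_finite
  have hQidx : X.Q.relIndex D.U = q := by
    have h := Subgroup.relIndex_mul_relIndex ⊥ X.Q D.U bot_le X.Q_le
    rw [relIndex_bot_left, relIndex_bot_left, X.card_Q, D.card_U] at h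
    exact Nat.eq_of_mul_eq_mul_left (pow_pos (show 0 < q by have := D.hq; omega) 2) (h.trans (pow_succ q 2))
  have h2 := Subgroup.relIndex_mul_relIndex ⊥ (C ⊓ X.Q) C bot_le inf_le_left
  rw [relIndex_bot_left, relIndex_bot_left] at h2
  rw [← h2, pow_two]
  exact Nat.mul_le_mul ((Subgroup.card_le_of_le hinf).trans X.card_Z.le) (h1.trans hQidx.le)

end CfsgLib.ReeSq
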